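import Groth.Agent.Resolve.K84.Iface
import Groth.Agent.Resolve.K588.Bir
import Groth.Agent.Vanish.K660.Kol
import Groth.Agent.Vanish.K660.NcdRefine
import Groth.Agent.Vanish.K911.Ncd
import Groth.Agent.RatRes.K97.DimTools
import Groth.Agent.Sga67.BlowAmple
import Groth.Agent.S1496
import Groth.Agent.Ega2.AmpleUnit
import Groth.Agent.S8852
import Groth.Agent.S2348

/-!
# Simultaneous log resolution of finitely many ideals

`exists_logRes`: from `K84.Iface.W K n`: for an integral `H`-projective `K`-scheme `X` of dimension `n`, nonzero ideal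
sheaves `I_j`, and a proper closed subset `Z`, there is a projective birational `μ : Y ⟶ X` with `Y` smooth, a strict normal crossing
family `E_i` with integral members containing `μ⁻¹ Z`, and `I_j · O_Y = ∏ E_i ^ (a j i)`.
-/

set_option autoImplicit false
universe u

open CategoryTheory CategoryTheory.Limits AlgebraicGeometry TopologicalSpace

namespace K165.LogRes

open K84.Iface BlowUp

variable {K : Type u} [Field K]

theorem comap_prod {X Y : Scheme.{u}} {ι : Type*} (s : Finset ι) (I : ι → Y.IdealSheafData) (f : X ⟶ Y) :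
    (∏ i ∈ s, I i).comap f = ∏ i ∈ s, (I i).comap f := by
  classical
  induction s using Finset.induction_on with
  | empty =>
    rw [Finset.prod_empty, Finset.prod_empty, Scheme.IdealSheafData.one_eq_top, Scheme.IdealSheafData.comap_top,
      Scheme.IdealSheafData.one_eq_top]
  | insert a s ha ih =>
    rw [Finset.prod_insert ha, Finset.prod_insert ha, Groth.Agent.Divis.IdealComap.comap_mul, ih]

theorem isEff_of_prod {X : Scheme.{u}} {ι : Type*} (s : Finset ι) (I : ι → X.IdealSheafData)
    (h : IsEffCartierIdeal (∏ i ∈ s, I i)) : ∀ i ∈ s, IsEffCartierIdeal (I i) := by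
  classical
  intro i hi
  rw [← Finset.mul_prod_erase s I hi] at h
  exact (Groth.Agent.S8852.result _ _ h).1

theorem mem_support_bot_iff {X : Scheme.{u}} [IsIntegral X] {I : X.IdealSheafData} :
    genericPoint X ∈ I.support ↔ I = ⊥ := by
  constructor
  · intro hA
    have hT : I.support = ⊤ := by
      apply Closeds.ext
      rw [Closeds.coe_top, Set.eq_univ_iff_forall]
      intro x
      exact ((genericPoint_spec X).specializes (Set.mem_univ x)).mem_closed I.support.isClosed hA
    exact Scheme.IdealSheafData.support_eq_top_iff.1 hT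
  · rintro rfl
    rw [Scheme.IdealSheafData.support_bot]
    trivial

theorem mul_ne_bot {X : Scheme.{u}} [IsIntegral X] {I J : X.IdealSheafData} (hI : I ≠ ⊥) (hJ : J ≠ ⊥) :
    I * J ≠ ⊥ := by
  intro h
  rw [← mem_support_bot_iff, Scheme.IdealSheafData.support_mul, ← SetLike.mem_coe, Closeds.coe_sup, Set.mem_union,
    SetLike.mem_coe, SetLike.mem_coe, mem_support_bot_iff, mem_support_bot_iff] at h
  exact h.elim hI hJ

theorem prod_ne_bot {X : Scheme.{u}} [IsIntegral X] {ι : Type*} (s : Finset ι) (I : ι → X.IdealSheafData)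
    (h : ∀ i ∈ s, I i ≠ ⊥) : ∏ i ∈ s, I i ≠ ⊥ := by
  classical
  induction s using Finset.induction_on with
  | empty =>
    rw [Finset.prod_empty, Scheme.IdealSheafData.one_eq_top]
    intro h0
    rw [← mem_support_bot_iff, Scheme.IdealSheafData.support_top] at h0
    exact h0
  | insert a s ha ih =>
    rw [Finset.prod_insert ha]
    exact mul_ne_bot (h a (Finset.mem_insert_self a s)) (ih fun i hi => h i (Finset.mem_insert_of_mem hi))

theorem exists_ample {X : Scheme.{u}} {p : X ⟶ Spec (CommRingCat.of K)} (hp : RelProj.IsHProjective p) :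
    IsProper p ∧ ∃ L : X.Modules, CohB1.IsAmple L :=
  (Groth.Agent.S1496.result ⟨_, Groth.Agent.Ega2.Weight.isAmple_structureModule _⟩ p).1.1 hp

theorem isHProjective_of_ample {X : Scheme.{u}} {p : X ⟶ Spec (CommRingCat.of K)} [IsProper p]
    (h : ∃ L : X.Modules, CohB1.IsAmple L) : RelProj.IsHProjective p :=
  (Groth.Agent.S1496.result ⟨_, Groth.Agent.Ega2.Weight.isAmple_structureModule _⟩ p).1.2 ⟨inferInstance, h⟩

theorem isNoetherian_of_proper {X : Scheme.{u}} (p : X ⟶ Spec (CommRingCat.of K)) [IsProper p] : IsNoetherian X := by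
  have : IsLocallyNoetherian X := LocallyOfFiniteType.isLocallyNoetherian p
  have : CompactSpace X := (quasiCompact_iff_compactSpace p).mp inferInstance
  exact {}

theorem isFiniteTypeIdeal {X : Scheme.{u}} [IsLocallyNoetherian X] (J : X.IdealSheafData) :
    BlowUp.IsFiniteTypeIdeal J := fun U => by
  have := IsLocallyNoetherian.component_noetherian (X := X) U
  exact IsNoetherian.noetherian _

/-- a blow-up of an `H`-projective scheme is `H`-projective -/
theorem isHProjective_blowUp {X X' : Scheme.{u}} {p : X ⟶ Spec (CommRingCat.of K)}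
    (hp : RelProj.IsHProjective p) (J : X.IdealSheafData) (b : X' ⟶ X) (hb : IsBlowUp b J) :
    RelProj.IsHProjective (b ≫ p) := by
  obtain ⟨hprop, L, hL⟩ := exists_ample hp
  have := isNoetherian_of_proper p
  have hbp : IsProper b := Groth.Agent.Flat2C.BlowProper.isProper_of_isBlowUp hb (isFiniteTypeIdeal J)
  have : IsProper (b ≫ p) := inferInstance
  exact isHProjective_of_ample (Groth.Agent.Sga67.BlowAmple.exists_isAmple hb L hL)

/-- remove repetitions from a normal crossing family -/
theorem exists_injective {X S : Scheme.{u}} {f : X ⟶ S} {r : ℕ} (E : Fin r → X.IdealSheafData)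
    (hE : LogNCD.IsNCD E f) : ∃ (r' : ℕ) (σ : Fin r' → Fin r), Function.Injective (fun j => E (σ j)) ∧
      LogNCD.IsNCD (fun j => E (σ j)) f ∧ ∀ i, ∃ j, E (σ j) = E i := by
  classical
  let T : Finset X.IdealSheafData := Finset.univ.image E
  let e := T.equivFin
  have hT : ∀ t : T, ∃ i, E i = t.1 := fun t => by
    obtain ⟨i, _, hi⟩ := Finset.mem_image.1 t.2
    exact ⟨i, hi⟩
  choose σ hσ using hT
  refine ⟨T.card, fun j => σ (e.symm j), ?_, ?_, ?_⟩
  · intro i j h
    simp only [hσ] at h
    exact e.symm.injective (Subtype.ext h)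
  · refine K660.Kol.isNCD_comp hE _ ?_
    intro i j h
    have h1 := congrArg E h
    simp only [hσ] at h1
    exact e.symm.injective (Subtype.ext h1)
  · intro i
    refine ⟨e ⟨E i, Finset.mem_image_of_mem _ (Finset.mem_univ i)⟩, ?_⟩
    rw [hσ, Equiv.symm_apply_apply]

/-- **Simultaneous log resolution** -/
theorem exists_logRes {n : ℕ} (hW : W K n) {X : Scheme.{u}} (p : X ⟶ Spec (CommRingCat.of K)) [IsIntegral X]
    (hp : RelProj.IsHProjective p) (hn : topologicalKrullDim X = n) {m : ℕ} (I : Fin m → X.IdealSheafData)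
    (hI : ∀ j, I j ≠ ⊥) (Z : Set X) (hZ : IsClosed Z) (hZ' : Z ≠ Set.univ) :
    ∃ (Y : Scheme.{u}) (μ : Y ⟶ X) (r : ℕ) (E : Fin r → Y.IdealSheafData),
      IsIntegral Y ∧ RelProj.IsHProjective (μ ≫ p) ∧ IsBir μ ∧ Smooth (μ ≫ p) ∧ LogNCD.IsNCD E (μ ≫ p) ∧
      (∀ i, IsIntegral (E i).subscheme) ∧ Function.Injective E ∧ μ ⁻¹' Z ⊆ supp E ∧
      ∀ j, ∃ a : Fin r → ℕ, (I j).comap μ = ∏ i, E i ^ a i := by
  obtain ⟨hprop, L, hL⟩ := exists_ample hp
  have := isNoetherian_of_proper p
  -- blow up the product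
  let J : X.IdealSheafData := ∏ j, I j
  have hJ : J ≠ ⊥ := prod_ne_bot _ _ fun j _ => hI j
  obtain ⟨X', b, hb⟩ := Groth.Agent.Flat2C.BlowExist.exists_isBlowUp J
  obtain ⟨hint, hgen, -⟩ := Groth.Agent.S2348.result J hJ b hb
  have hbH := isHProjective_blowUp hp J b hb
  have hbp : IsProper b := Groth.Agent.Flat2C.BlowProper.isProper_of_isBlowUp hb (isFiniteTypeIdeal J)
  have hbir : IsBir b := by
    refine ⟨⟨(J.support : Set X)ᶜ, J.support.isClosed.isOpen_compl⟩, ⟨genericPoint X, fun h => hJ (mem_support_bot_iff.1 h)⟩, ?_⟩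
    exact Groth.Agent.Divis.BlowUpFormal.isIso_morphismRestrict_compl_support hb _ disjoint_compl_left
  have hn' : topologicalKrullDim X' = n := by
    rw [K97.DimTools.dim_eq_of_birational p b hbir, hn]
  have hprod : IsEffCartierIdeal (∏ j, (I j).comap b) := by
    rw [← comap_prod]
    exact hb.1
  have heff : ∀ j, IsEffCartierIdeal ((I j).comap b) := fun j => isEff_of_prod _ _ hprod j (Finset.mem_univ j)
  -- resolve
  have hZg : genericPoint X ∉ Z := by
    intro h
    apply hZ'
    rw [Set.eq_univ_iff_forall]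
    intro x
    exact ((genericPoint_spec X).specializes (Set.mem_univ x)).mem_closed hZ h
  obtain ⟨Y, φ, r₀, D, hY, hφp, hφ, hsm, hD, hZD⟩ := hW X' (b ≫ p) hint hbH hn'
    (b ⁻¹' Z ∪ ((J.comap b).support : Set X')) ((hZ.preimage b.continuous).union (J.comap b).support.isClosed) (by
      intro h
      have h1 : genericPoint X' ∈ b ⁻¹' Z ∪ ((J.comap b).support : Set X') := by rw [h]; trivial
      rcases h1 with h1 | h1
      · apply hZg
        rw [← hgen]
        exact h1
      · rw [SetLike.mem_coe, K911.Ncd.mem_support_comap] at h1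
        apply hJ
        rw [← mem_support_bot_iff, ← hgen]
        exact h1)
  have : IsProper (φ ≫ b ≫ p) := (exists_ample hφp).1
  have hYn := isNoetherian_of_proper (φ ≫ b ≫ p)
  obtain ⟨r₁, D₁, hD₁, hint₁, hsupp₁⟩ := K660.NcdRefine.exists_refine (φ ≫ b ≫ p) D hD
  obtain ⟨r, σ, hinj, hncd, hall⟩ := exists_injective D₁ hD₁
  have hφg : φ (genericPoint Y) = genericPoint X' := K588.Bir.map_genericPoint hφ
  have hcov : ∀ y : Y, φ y ∈ b ⁻¹' Z ∪ ((J.comap b).support : Set X') → ∃ i, y ∈ (D₁ (σ i)).support := by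
    intro y hy
    have h1 := hZD hy
    obtain ⟨i, hi⟩ := Set.mem_iUnion.1 h1
    obtain ⟨j, hj⟩ := (hsupp₁ y).2 ⟨i, hi⟩
    obtain ⟨l, hl⟩ := hall j
    exact ⟨l, by rw [hl]; exact hj⟩
  refine ⟨Y, φ ≫ b, r, fun i => D₁ (σ i), hY, ?_, K588.Bir.isBir_comp φ b hφ hbir, ?_, ?_, fun i => hint₁ (σ i), hinj, ?_, ?_⟩
  · rw [Category.assoc]; exact hφp
  · rw [Category.assoc]; exact hsm
  · rw [Category.assoc]; exact hncd
  · intro y hy
    obtain ⟨i, hi⟩ := hcov y (Or.inl (by
      rw [Scheme.Hom.comp_base] at hy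
      exact hy))
    exact Set.mem_iUnion.2 ⟨i, hi⟩
  · intro j
    have heff2 : IsEffCartierIdeal (((I j).comap b).comap φ) := by
      refine K660.Kol.isEff_comap_of_generic φ (heff j) ?_
      rw [hφg, K911.Ncd.mem_support_comap, hgen, mem_support_bot_iff]
      exact hI j
    rw [Scheme.IdealSheafData.comap_comp]
    refine Groth.Agent.S1659.result Y _ heff2 r _ (fun i => K911.Ncd.isEff_of_isNCD hncd i) (fun i => hint₁ (σ i)) ?_
    intro y hy
    obtain ⟨i, hi⟩ := hcov y (Or.inr (by
      rw [SetLike.mem_coe, K911.Ncd.mem_support_comap, K911.Ncd.mem_support_comap] at hy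
      rw [SetLike.mem_coe, K911.Ncd.mem_support_comap]
      show b (φ y) ∈ (∏ j, I j).support
      rw [← Finset.mul_prod_erase _ I (Finset.mem_univ j), Scheme.IdealSheafData.support_mul, ← SetLike.mem_coe,
        Closeds.coe_sup]
      exact Or.inl hy))
    exact Set.mem_iUnion.2 ⟨i, hi⟩

end K165.LogRes
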