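import Groth.Agent.Vanish.K660.NcdRefine
import Groth.Agent.Vanish.K660.KolUp
import Groth.Agent.Vanish.K27.Strata
import Groth.Agent.Vanish.K31.NcdRad
import Mathlib.RingTheory.Regular.Flat
import Mathlib.RingTheory.MvPolynomial.Ideal

/-!
# Splitting the last member of a normal crossing family into its components

* `ne_of_isNCD`: two different members of a normal crossing family with a common point are different;
* `exists_split`: a smooth closed subscheme is the disjoint union of finitely many integral ones;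
* `isNCD_append`: replace the last member of a normal crossing family by its components.
-/

set_option autoImplicit false
universe u

open CategoryTheory CategoryTheory.Limits AlgebraicGeometry TopologicalSpace Opposite

namespace K165.Split

open LogNCD K911.Ncd K660.NcdRefine K922.Chart K922.Coord
open Groth.Agent.Sga67.Sec

section ring

open RingTheory.Sequence
open scoped Pointwise

/-- The variables of a polynomial ring form a weakly regular sequence. -/
theorem isWeaklyRegular_X {σ : Type*} (T : Type*) [CommRing T] (l : List σ) (hl : l.Nodup) :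
    IsWeaklyRegular (MvPolynomial σ T) (l.map (MvPolynomial.X (R := T))) := by
  classical
  refine ⟨fun i hi => ?_⟩
  rw [List.length_map] at hi
  rw [isSMulRegular_quotient_iff_mem_of_smul_mem]
  intro x hx
  have key : (Ideal.ofList ((l.map (MvPolynomial.X (R := T))).take i) • ⊤ :
      Submodule (MvPolynomial σ T) (MvPolynomial σ T)) =
      Ideal.span (MvPolynomial.X '' {j | j ∈ l.take i}) := by
    rw [smul_eq_mul, Ideal.mul_top, Ideal.ofList]
    congr 1
    ext f
    simp [← List.map_take]
  rw [key] at hx ⊢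
  rw [MvPolynomial.mem_ideal_span_X_image] at hx ⊢
  intro m hm
  have h1 : m + Finsupp.single l[i] 1 ∈ ((l.map (MvPolynomial.X (R := T)))[i] • x).support := by
    rw [List.getElem_map, smul_eq_mul, MvPolynomial.mem_support_iff, mul_comm,
      MvPolynomial.coeff_mul_X]
    exact MvPolynomial.mem_support_iff.1 hm
  obtain ⟨j, hj, hj'⟩ := hx _ h1
  refine ⟨j, hj, ?_⟩
  have hne : l[i] ≠ j := by
    rintro rfl
    obtain ⟨k, hk, hk'⟩ := List.mem_take_iff_getElem.1 (show l[i] ∈ l.take i from hj)
    have := (hl.getElem_inj_iff).1 hk'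
    omega
  rwa [Finsupp.add_apply, Finsupp.single_apply, if_neg hne, add_zero] at hj'

/-- Etale coordinates form a weakly regular sequence. -/
theorem isWeaklyRegular_coord {A B : Type u} [CommRing A] [CommRing B] {n : ℕ} (φ : A →+* B) (v : Fin n → B)
    (h : (MvPolynomial.eval₂Hom φ v).Etale) (l : List (Fin n)) (hl : l.Nodup) :
    IsWeaklyRegular B (l.map v) := by
  let _ : Algebra (MvPolynomial (Fin n) A) B := (MvPolynomial.eval₂Hom φ v).toAlgebra
  have hP : Algebra.Etale (MvPolynomial (Fin n) A) B := h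
  have hf : Module.Flat (MvPolynomial (Fin n) A) B := inferInstance
  have h1 := (isWeaklyRegular_X (σ := Fin n) A l hl).of_flat (S := B)
  rw [List.map_map] at h1
  have h2 : (algebraMap (MvPolynomial (Fin n) A) B : MvPolynomial (Fin n) A → B) ∘ (MvPolynomial.X (R := A)) = v := by
    funext j
    change MvPolynomial.eval₂Hom φ v (MvPolynomial.X j) = v j
    simp
  rwa [h2] at h1

/-- Two different etale coordinates are coprime. -/
theorem dvd_of_dvd_mul {A B : Type u} [CommRing A] [CommRing B] {n : ℕ} (φ : A →+* B) (v : Fin n → B)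
    (h : (MvPolynomial.eval₂Hom φ v).Etale) {a b : Fin n} (hab : a ≠ b) {g : B} (hg : v a ∣ v b * g) : v a ∣ g := by
  have h1 := isWeaklyRegular_coord φ v h [a, b] (by simp [hab])
  simp only [List.map_cons, List.map_nil, isWeaklyRegular_cons_iff] at h1
  have h2 := h1.2.1
  change IsSMulRegular (B ⧸ (v a • (⊤ : Submodule B B))) (v b) at h2
  rw [isSMulRegular_quotient_iff_mem_of_smul_mem] at h2
  obtain ⟨c, hc⟩ := hg
  have h3 := h2 g (by
    rw [smul_eq_mul, hc]
    exact Submodule.smul_mem_pointwise_smul c (v a) ⊤ trivial)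
  obtain ⟨d, -, hd⟩ := (Submodule.mem_smul_pointwise_iff_exists _ _ _).1 h3
  exact ⟨d, hd.symm⟩

end ring

variable {X S : Scheme.{u}} {f : X ⟶ S}

/-- Two different members of a normal crossing family with a common point are different, even locally. -/
theorem ideal_ne_of_isNCD [Smooth f] {r : ℕ} {D : Fin r → X.IdealSheafData} (hD : IsNCD D f) {i j : Fin r} (hij : i ≠ j)
    {x : X} (hx : x ∈ (D i).support) (O : X.Opens) (hxO : x ∈ O) :
    ∃ U : X.affineOpens, x ∈ U.1 ∧ U.1 ≤ O ∧ (D i).ideal U ≠ (D j).ideal U := by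
  obtain ⟨U, n, c, hxU, hUO⟩ := exists_chart (f := f) hD (O := O) (x := x) hxO
  obtain ⟨W, hWU, V, e, -, hxW, het⟩ := c.coord x U.1 le_rfl hxU
  refine ⟨W, hxW, hWU.trans hUO, fun heq => ?_⟩
  have h1 : ∀ i, (D i).ideal W = Ideal.span {resO X hWU (c.g i)} := fun i => c.ideal i W hWU
  have htop : (D i).ideal W ≠ ⊤ := fun h => notMem_support_of_ideal_eq_top _ _ h x hxW hx
  rcases hi : c.e i with _ | a
  · apply htop
    rw [h1, c.g_none i hi, map_one, Ideal.span_singleton_one]
  · rcases hj : c.e j with _ | b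
    · apply htop
      rw [heq, h1, c.g_none j hj, map_one, Ideal.span_singleton_one]
    · have hab : a ≠ b := by
        rintro rfl
        exact hij (c.inj i j a hi hj)
      have h2 : resO X hWU (c.v a) ∣ resO X hWU (c.v b) * 1 := by
        rw [mul_one, ← Ideal.mem_span_singleton]
        have h3 := h1 i
        rw [heq, h1 j, c.g_some i a hi, c.g_some j b hj] at h3
        rw [← h3]
        exact Ideal.mem_span_singleton_self _
      have h4 := dvd_of_dvd_mul _ (fun k => resO X hWU (c.v k)) het hab h2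
      apply htop
      rw [h1, c.g_some i a hi, Ideal.span_singleton_eq_top]
      exact isUnit_of_dvd_one h4

theorem ne_of_isNCD [Smooth f] {r : ℕ} {D : Fin r → X.IdealSheafData} (hD : IsNCD D f) {i j : Fin r} (hij : i ≠ j)
    {x : X} (hx : x ∈ (D i).support) : D i ≠ D j := by
  obtain ⟨U, -, -, h⟩ := ideal_ne_of_isNCD hD hij hx ⊤ trivial
  intro heq
  exact h (by rw [heq])

theorem injective_of_isNCD [Smooth f] {r : ℕ} {D : Fin r → X.IdealSheafData} (hD : IsNCD D f)
    (hne : ∀ i, ((D i).support : Set X).Nonempty) : Function.Injective D := by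
  intro i j h
  by_contra hij
  obtain ⟨x, hx⟩ := hne i
  exact ne_of_isNCD hD hij hx h

theorem support_nonempty_of_isIntegral (D : X.IdealSheafData) (h : IsIntegral D.subscheme) :
    (D.support : Set X).Nonempty := by
  obtain ⟨t⟩ : Nonempty D.subscheme := inferInstance
  have h2 : D.subschemeι t ∈ Set.range D.subschemeι := ⟨t, rfl⟩
  rw [D.range_subschemeι] at h2
  exact ⟨_, h2⟩

/-- the splitting data -/
structure IsSplit {X : Scheme.{u}} (G : X.IdealSheafData) {s : ℕ} (G' : Fin s → X.IdealSheafData) : Prop where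
  integral : ∀ j, IsIntegral (G' j).subscheme
  disj : ∀ (x : X) (i j : Fin s), x ∈ (G' i).support → x ∈ (G' j).support → i = j
  loc : ∀ (x : X) (j : Fin s), x ∈ (G' j).support →
    ∃ W₀ : X.Opens, x ∈ W₀ ∧ ∀ U : X.affineOpens, U.1 ≤ W₀ → (G' j).ideal U = G.ideal U
  supp : ∀ x : X, x ∈ G.support ↔ ∃ j, x ∈ (G' j).support

/-- A smooth closed subscheme is the disjoint union of integral ones. -/
theorem exists_split {k : Type u} [Field k] {X : Scheme.{u}} (f : X ⟶ Spec (CommRingCat.of k))
    [CompactSpace X] (G : X.IdealSheafData) (hG : Smooth (G.subschemeι ≫ f)) :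
    ∃ (s : ℕ) (G' : Fin s → X.IdealSheafData), IsSplit G G' := by
  classical
  let T : Scheme.{u} := G.subscheme
  let ι : T ⟶ X := G.subschemeι
  have hrange : ∀ (t : T), ι t ∈ G.support := fun t => by
    have h2 : ι t ∈ Set.range G.subschemeι := ⟨t, rfl⟩
    rw [G.range_subschemeι] at h2
    exact h2
  have hrange' : ∀ (x : X), x ∈ G.support → ∃ t : T, ι t = x := fun x hx => by
    have h2 : x ∈ Set.range G.subschemeι := by
      rw [G.range_subschemeι]; exact hx
    exact h2
  have hinj : Function.Injective ι := ι.isClosedEmbedding.injective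
  have hsm : Smooth (ι ≫ f) := hG
  have hcomp : ∀ c : ConnectedComponents T, ∃ W : T.Opens, IsClosed (W : Set T) ∧
      (∀ t, t ∈ W ↔ (t : ConnectedComponents T) = c) ∧ IsIntegral (W : Scheme.{u}) := by
    intro c
    obtain ⟨t, rfl⟩ := ConnectedComponents.surjective_coe c
    obtain ⟨W, htW, hW, hW', hWi⟩ := K660.ConnComp.exists_component (ι ≫ f) t
    refine ⟨W, hW, fun t' => ?_, hWi⟩
    rw [ConnectedComponents.coe_eq_coe']
    change t' ∈ (W : Set T) ↔ _
    rw [hW']
  choose W hWc hW hWi using hcomp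
  have hcompact : CompactSpace T := ι.isClosedEmbedding.compactSpace
  have hln : IsLocallyNoetherian T := LocallyOfFiniteType.isLocallyNoetherian (ι ≫ f)
  have hlc : LocallyConnectedSpace T :=
    Groth.Agent.Sga3C.LocConn.locallyConnectedSpace_of_isLocallyNoetherian T
  have hcl : ∀ c, IsClosedImmersion (W c).ι := fun c => K660.ConnComp.isClosedImmersion_ι _ (hWc c)
  let J := ConnectedComponents T
  have hJ : Finite J := inferInstance
  let e : J ≃ Fin (Nat.card J) := Finite.equivFin J
  let j : ∀ a : J, (W a : Scheme.{u}) ⟶ X := fun a => (W a).ι ≫ ι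
  have hj : ∀ a, IsClosedImmersion (j a) := fun a => inferInstance
  have hjs : ∀ (a : J) (x : X), x ∈ (j a).ker.support ↔ ∃ t : T, t ∈ W a ∧ ι t = x := by
    intro a x
    have h1 : ((j a).ker.support : Set X) = Set.range (j a) := by
      rw [Scheme.Hom.support_ker, (j a).isClosedEmbedding.isClosed_range.closure_eq]
    have h2 : x ∈ (j a).ker.support ↔ x ∈ Set.range (j a) := by
      rw [← h1]; rfl
    rw [h2]
    constructor
    · rintro ⟨t, rfl⟩
      exact ⟨(W a).ι t, t.2, rfl⟩
    · rintro ⟨t, ht, rfl⟩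
      exact ⟨⟨t, ht⟩, rfl⟩
  have hker : ι.ker = G := Scheme.IdealSheafData.ker_subschemeι G
  let K : J → X.IdealSheafData := fun a => (j a).ker
  refine ⟨Nat.card J, fun b => K (e.symm b), ?_, ?_, ?_, ?_⟩
  · intro b
    have h1 : IsIso (j (e.symm b)).toImage := inferInstance
    have h2 : IsIntegral (W (e.symm b) : Scheme.{u}) := hWi _
    have h3 : Nonempty (j (e.symm b)).ker.subscheme := Nonempty.map (j (e.symm b)).toImage inferInstance
    exact isIntegral_of_isOpenImmersion (inv (j (e.symm b)).toImage)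
  · intro x b b' hb hb'
    obtain ⟨t, ht, htx⟩ := (hjs _ x).1 hb
    obtain ⟨t', ht', htx'⟩ := (hjs _ x).1 hb'
    rw [hW] at ht ht'
    apply e.symm.injective
    have h2 : t = t' := hinj (htx.trans htx'.symm)
    subst h2
    exact ht.symm.trans ht'
  · intro x b hb
    let O : X.Opens := ⟨⋂ a : {a : J // x ∉ (j a).ker.support}, ((j a.1).ker.support : Set X)ᶜ,
      isOpen_iInter_of_finite fun a => (j a.1).ker.support.isClosed.isOpen_compl⟩
    have hO : ∀ y, y ∈ O → ∀ a, y ∈ (j a).ker.support → x ∈ (j a).ker.support := by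
      intro y hy a ha
      by_contra hx
      exact Set.mem_iInter.1 hy ⟨a, hx⟩ ha
    have hxO : x ∈ O := Set.mem_iInter.2 fun a => a.2
    refine ⟨O, hxO, fun U hU => ?_⟩
    obtain ⟨t, ht, htx⟩ := (hjs _ x).1 hb
    have h1 : (j (e.symm b)).ker.ideal U = ι.ker.ideal U := by
      refine ker_ideal_of_le ι (W (e.symm b)) U fun s hs => ?_
      have h2 : x ∈ (j (s : ConnectedComponents T)).ker.support :=
        hO (ι s) (hU hs) _ ((hjs _ _).2 ⟨s, (hW _ _).2 rfl, rfl⟩)
      obtain ⟨t', ht', htx'⟩ := (hjs _ x).1 h2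
      have h3 : t' = t := hinj (htx'.trans htx.symm)
      subst h3
      rw [hW] at ht ht' ⊢
      exact ht'.symm.trans ht
    rw [hker] at h1
    exact h1
  · intro x
    constructor
    · intro hi
      obtain ⟨t, rfl⟩ := hrange' x hi
      refine ⟨e (t : ConnectedComponents T), ?_⟩
      rw [Equiv.symm_apply_apply]
      exact (hjs _ _).2 ⟨t, (hW _ _).2 rfl, rfl⟩
    · rintro ⟨b, hb⟩
      obtain ⟨t, -, ht⟩ := (hjs _ x).1 hb
      exact ht ▸ hrange t

/-- a nice open around any point -/
theorem IsSplit.exists_open {G : X.IdealSheafData} {s : ℕ} {G' : Fin s → X.IdealSheafData} (h : IsSplit G G') (x : X) :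
    ∃ W₀ : X.Opens, x ∈ W₀ ∧ (∀ j, x ∈ (G' j).support → ∀ U : X.affineOpens, U.1 ≤ W₀ → (G' j).ideal U = G.ideal U) ∧
      (∀ j, x ∉ (G' j).support → ∀ U : X.affineOpens, U.1 ≤ W₀ → (G' j).ideal U = ⊤) ∧
      (x ∉ G.support → ∀ U : X.affineOpens, U.1 ≤ W₀ → G.ideal U = ⊤) := by
  classical
  let O : X.Opens := ⟨⋂ a : {a : Fin s // x ∉ (G' a).support}, ((G' a.1).support : Set X)ᶜ,
    isOpen_iInter_of_finite fun a => (G' a.1).support.isClosed.isOpen_compl⟩
  have hxO : x ∈ O := Set.mem_iInter.2 fun a => a.2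
  have hO : ∀ j, x ∉ (G' j).support → ∀ U : X.affineOpens, U.1 ≤ O → (G' j).ideal U = ⊤ := by
    intro j hj U hU
    exact K922.Chart.ideal_eq_top_of_disjoint _ U fun y hy hy' => Set.mem_iInter.1 (hU hy) ⟨j, hj⟩ hy'
  by_cases hx : x ∈ G.support
  · obtain ⟨j, hj⟩ := (h.supp x).1 hx
    obtain ⟨W₁, hxW₁, hW₁⟩ := h.loc x j hj
    refine ⟨O ⊓ W₁, ⟨hxO, hxW₁⟩, ?_, fun j hj U hU => hO j hj U (hU.trans inf_le_left), fun h => (h hx).elim⟩
    intro j' hj' U hU
    obtain rfl := h.disj x j j' hj hj'
    exact hW₁ U (hU.trans inf_le_right)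
  · have hx' : ∀ j, x ∉ (G' j).support := fun j hj => hx ((h.supp x).2 ⟨j, hj⟩)
    refine ⟨O ⊓ ⟨((G.support : Set X))ᶜ, G.support.isClosed.isOpen_compl⟩, ⟨hxO, hx⟩, fun j hj => (hx' j hj).elim,
      fun j hj U hU => hO j hj U (hU.trans inf_le_left), fun _ U hU => ?_⟩
    exact K922.Chart.ideal_eq_top_of_disjoint _ U fun y hy hy' => (hU hy).2 hy'

/-- the product of the components is the whole -/
theorem IsSplit.eq_prod {G : X.IdealSheafData} {s : ℕ} {G' : Fin s → X.IdealSheafData} (h : IsSplit G G') :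
    G = ∏ j, G' j := by
  classical
  choose W₀ hxW₀ h1 h2 h3 using h.exists_open
  choose U hU hxU using fun x => K922.Quot.exists_affine_nhd (X := X) (U := W₀ x) (x := x) (hxW₀ x)
  refine Scheme.IdealSheafData.ext_of_iSup_eq_top U ?_ ?_
  · rw [eq_top_iff]
    intro x _
    exact Opens.mem_iSup.2 ⟨x, hxU x⟩
  · intro x
    rw [K31.NcdRad.ideal_prod]
    by_cases hx : x ∈ G.support
    · obtain ⟨j, hj⟩ := (h.supp x).1 hx
      rw [← Finset.mul_prod_erase _ _ (Finset.mem_univ j), h1 x j hj (U x) (hU x)]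
      rw [Finset.prod_eq_one, mul_one]
      intro i hi
      rw [h2 x i (fun hi' => (Finset.mem_erase.1 hi).1 (h.disj x i j hi' hj)) (U x) (hU x), Ideal.one_eq_top]
    · rw [h3 x hx (U x) (hU x), Finset.prod_eq_one, Ideal.one_eq_top]
      intro i _
      rw [h2 x i (fun hi' => hx ((h.supp x).2 ⟨i, hi'⟩)) (U x) (hU x), Ideal.one_eq_top]

/-- replace the last member by its components -/
theorem isNCD_append {r s : ℕ} {E : Fin r → X.IdealSheafData} {G : X.IdealSheafData} {G' : Fin s → X.IdealSheafData}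
    (hE : IsNCD (K27.Bert0.snocD E G) f) (h : IsSplit G G') : IsNCD (Fin.append E G') f := by
  classical
  refine isNCD_of_local hE fun x _ => ?_
  obtain ⟨W₁, hxW₁, h1, h2, -⟩ := h.exists_open x
  let O : X.Opens := ⟨⋂ a : {a : Fin r // x ∉ (E a).support}, ((E a.1).support : Set X)ᶜ,
    isOpen_iInter_of_finite fun a => (E a.1).support.isClosed.isOpen_compl⟩
  have hxO : x ∈ O := Set.mem_iInter.2 fun a => a.2
  have hO : ∀ j, x ∉ (E j).support → ∀ U : X.affineOpens, U.1 ≤ O → (E j).ideal U = ⊤ := by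
    intro j hj U hU
    exact K922.Chart.ideal_eq_top_of_disjoint _ U fun y hy hy' => Set.mem_iInter.1 (hU hy) ⟨j, hj⟩ hy'
  let τ : Fin (r + s) → Fin (r + 1) := Fin.addCases (fun i => i.castSucc) (fun _ => Fin.last r)
  have hτl : ∀ i, τ (Fin.castAdd s i) = i.castSucc := fun i => Fin.addCases_left i
  have hτr : ∀ i, τ (Fin.natAdd r i) = Fin.last r := fun i => Fin.addCases_right i
  have hmem : ∀ i : Fin (r + s), x ∈ (Fin.append E G' i).support → x ∈ (K27.Bert0.snocD E G (τ i)).support := by
    intro i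
    refine Fin.addCases (fun i => ?_) (fun i => ?_) i
    · intro hi
      rw [Fin.append_left] at hi
      rw [hτl]
      simpa only [K27.Bert0.snocD, Fin.snoc_castSucc] using hi
    · intro hi
      rw [Fin.append_right] at hi
      rw [hτr]
      simp only [K27.Bert0.snocD, Fin.snoc_last]
      exact (h.supp x).2 ⟨i, hi⟩
  refine ⟨W₁ ⊓ O, ⟨hxW₁, hxO⟩, fun i => ⟨τ i.1, hmem i.1 i.2⟩, ?_, ?_, ?_⟩
  · rintro ⟨i, hi⟩ ⟨i', hi'⟩ hii
    have h3 : τ i = τ i' := congrArg Subtype.val hii
    clear hii
    apply Subtype.ext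
    change i = i'
    revert hi hi' h3
    refine Fin.addCases (fun i => ?_) (fun i => ?_) i <;> refine Fin.addCases (fun i' => ?_) (fun i' => ?_) i'
    · intro _ _ h3
      rw [hτl, hτl] at h3
      rw [Fin.castSucc_injective _ h3]
    · intro _ _ h3
      rw [hτl, hτr] at h3
      exact absurd h3 (Fin.castSucc_ne_last i)
    · intro _ _ h3
      rw [hτl, hτr] at h3
      exact absurd h3.symm (Fin.castSucc_ne_last i')
    · intro hi hi' h3
      rw [Fin.append_right] at hi hi'
      rw [h.disj x i i' hi hi']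
  · rintro ⟨i, hi⟩ U hU
    change (Fin.append E G' i).ideal U = (K27.Bert0.snocD E G (τ i)).ideal U
    revert hi
    refine Fin.addCases (fun i => ?_) (fun i => ?_) i
    · intro _
      rw [Fin.append_left, hτl]
      simp only [K27.Bert0.snocD, Fin.snoc_castSucc]
    · intro hi
      rw [Fin.append_right] at hi ⊢
      rw [hτr]
      simp only [K27.Bert0.snocD, Fin.snoc_last]
      exact h1 i hi U (hU.trans inf_le_left)
  · intro i
    refine Fin.addCases (fun i => ?_) (fun i => ?_) i
    · intro hi U hU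
      rw [Fin.append_left] at hi ⊢
      exact hO i hi U (hU.trans inf_le_right)
    · intro hi U hU
      rw [Fin.append_right] at hi ⊢
      exact h2 i hi U (hU.trans inf_le_left)

end K165.Split
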