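import Groth.Agent.AdjLin.K165.GenId
import Groth.Agent.AdjLin.K165.Split
import Groth.Agent.AdjLin.K165.LogRes
import Groth.Agent.Ega1.IdealGen
import Groth.Agent.Picfga.SecGraph
import Groth.Agent.Desc.K390.PnSec

/-!
# Bertini for the general member of `M ⊗ b` on a log resolution

`bert`: `M` invertible on `X`, `b` an ideal generated by finitely many sections of `M`, `μ : Y ⟶ X` a model with
`b · O_Y = ∏ E_i ^ B_i`. Then there is a section of `M` lying in `b`, with zero ideal `D`, such that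
`D · O_Y = ∏ E_i ^ B_i * ∏ G_k` and `E ∪ G` is again a normal crossing family with integral members, pairwise different.
-/

set_option autoImplicit false
universe u

open CategoryTheory CategoryTheory.Limits AlgebraicGeometry TopologicalSpace Opposite

namespace K165.Bert

open Groth.Agent Groth.Agent.Picfga.ZeroDef Groth.Agent.Fdesc.LocGen Groth.Agent.Divis.CartierBasic K165.GenId K165.Split

variable {X Y : Scheme.{u}}

section twist

variable {M : X.Modules} (hM : PicF.IsInvertible M) {C : X.IdealSheafData} (hC : BlowUp.IsEffCartierIdeal C)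

include hC in
/-- an affine neighbourhood with a generator and an equation -/
theorem exists_chart {M : X.Modules} (hM : PicF.IsInvertible M) (x : X) :
    ∃ (U : X.affineOpens) (e : Γ(M, U.1)) (g : Γ(X, U.1)), x ∈ U.1 ∧ IsGen e ∧ g ∈ nonZeroDivisors Γ(X, U.1) ∧
      C.ideal U = Ideal.span {g} := by
  obtain ⟨U, hU, hxU, -, e, he⟩ := Pi1C.ZeroScheme.exists_affine_isGen hM ⊤ x trivial
  obtain ⟨V, hxV, hVU, g, hg, hCg⟩ := exists_generator_le hC U hxU
  exact ⟨V, res M hVU e, g, hxV, he.res hVU, hg, hCg⟩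

theorem isGen_gamma {U : X.affineOpens} {g : Γ(X, U.1)} (hg : g ∈ nonZeroDivisors Γ(X, U.1))
    (hCg : C.ideal U = Ideal.span {g}) {γ : Γ(ClSub.idealMod C, U.1)} (hγ : OmegaSh.idealSect C U.1 γ = g) :
    IsGen γ := by
  have h1 : PerfA.IdealModule.val C γ = g := hγ
  refine Ega1.IdealGen.isGen_of_span (A := U) (E := C) (t := γ) ?_ ?_
  · rw [hCg, h1]
  · rw [h1]; exact hg

include hM hC in
/-- the zero ideal of a section of `M ⊗ C`, seen as a section of `M` -/
theorem zeroScheme_comp_inclTwist (t : Coh.structureModule X ⟶ CohB1.tensorMod M (ClSub.idealMod C)) :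
    PicF2.zeroScheme M (t ≫ LogNCD.inclTwist M C) =
      C * PicF2.zeroScheme (CohB1.tensorMod M (ClSub.idealMod C)) t := by
  have hI := Dix.IdealModCartier.isInvertible_idealMod hC
  refine zeroScheme_eq_of_local hM _ _ fun y => ?_
  obtain ⟨U, e, g, hyU, he, hg, hCg⟩ := exists_chart hC hM y
  obtain ⟨γ, hγ⟩ := (K922.Quot.exists_idealSect_iff C U g).2 (by rw [hCg]; exact Ideal.mem_span_singleton_self g)
  have hγgen : IsGen γ := isGen_gamma hg hCg hγ
  obtain ⟨a, ha⟩ := (he.tmul hγgen).exists_eq (sec t U.1)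
  refine ⟨U, e, g * a, hyU, he, ?_, ?_⟩
  · rw [sec_comp, ha]
    rw [show (LogNCD.inclTwist M C).app U.1 (a • tmul e γ) = a • (LogNCD.inclTwist M C).app U.1 (tmul e γ) from
      Scheme.Modules.Hom.app_smul _ _ _, inclTwist_tmul, hγ, smul_smul, mul_comm]
  · rw [Scheme.IdealSheafData.ideal_mul, Pi.mul_apply, hCg,
      Pi1C.ZeroScheme.ideal_eq_span t (isInvertible_tensorMod hM hI) U (he.tmul hγgen) ha,
      Ideal.span_singleton_mul_span_singleton]

include hM hC in
/-- a section of `M` vanishing on `C` comes from a section of `M ⊗ C` -/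
theorem exists_lift (s : Coh.structureModule X ⟶ M) (hs : PicF2.zeroScheme M s ≤ C) :
    ∃ t : Coh.structureModule X ⟶ CohB1.tensorMod M (ClSub.idealMod C), t ≫ LogNCD.inclTwist M C = s := by
  have hloc : ∀ x : X, ∃ (U : X.Opens) (τ : Γ(CohB1.tensorMod M (ClSub.idealMod C), U)), x ∈ U ∧
      (LogNCD.inclTwist M C).app U τ = sec s U := by
    intro x
    obtain ⟨U, e, g, hxU, he, hg, hCg⟩ := exists_chart hC hM x
    obtain ⟨γ, hγ⟩ := (K922.Quot.exists_idealSect_iff C U g).2 (by rw [hCg]; exact Ideal.mem_span_singleton_self g)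
    obtain ⟨c, hc⟩ := he.exists_eq (sec s U.1)
    have h1 : c ∈ C.ideal U := by
      apply hs U
      rw [Pi1C.ZeroScheme.ideal_eq_span s hM U he hc]
      exact Ideal.mem_span_singleton_self c
    rw [hCg, Ideal.mem_span_singleton'] at h1
    obtain ⟨d, hd⟩ := h1
    refine ⟨U.1, d • tmul e γ, hxU, ?_⟩
    rw [show (LogNCD.inclTwist M C).app U.1 (d • tmul e γ) = d • (LogNCD.inclTwist M C).app U.1 (tmul e γ) from
      Scheme.Modules.Hom.app_smul _ _ _, inclTwist_tmul, hγ, smul_smul, hd, hc]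
  choose U τ hxU hτ using hloc
  have hinj : ∀ U : X.Opens, Function.Injective ((LogNCD.inclTwist M C).app U) := fun U =>
    K913.TauAff.inclTwist_injective C (K660.Kol.isFinLocFree_of_isInvertible hM) U
  have hcov : ⨆ x, U x = ⊤ := by
    rw [eq_top_iff]
    intro x _
    exact Opens.mem_iSup.2 ⟨x, hxU x⟩
  obtain ⟨t, ht⟩ := exists_hom_of_family U hcov τ (fun i j => by
    apply hinj
    rw [app_res, app_res, hτ, hτ, res_sec, res_sec])
  refine ⟨t, hom_ext_family U hcov fun i => ?_⟩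
  rw [sec_comp, ht, hτ]

end twist

theorem isEff_prod {ι : Type*} (s : Finset ι) (D : ι → X.IdealSheafData) (hD : ∀ i, BlowUp.IsEffCartierIdeal (D i))
    (n : ι → ℕ) : BlowUp.IsEffCartierIdeal (∏ i ∈ s, D i ^ n i) := by
  classical
  induction s using Finset.induction_on with
  | empty => rw [Finset.prod_empty]; exact Divis.EffCartier.isEff_top
  | insert a s ha ih =>
    rw [Finset.prod_insert ha]
    exact Divis.EffCartier.isEff_mul (K660.KolUp.isEff_pow (hD a) _) ih

theorem mul_iSup' {ι : Type*} (C : X.IdealSheafData) (I : ι → X.IdealSheafData) :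
    C * ⨆ i, I i = ⨆ i, C * I i := by
  ext U : 2
  rw [Scheme.IdealSheafData.ideal_mul, Pi.mul_apply, Scheme.IdealSheafData.ideal_iSup, iSup_apply,
    Scheme.IdealSheafData.ideal_iSup, iSup_apply, Ideal.mul_iSup]
  rfl

section member

variable {k : Type u} [Field k]

open K27.Bert0 K27.SecScal

theorem sec_member [X.Over (Spec (CommRingCat.of k))] {M : X.Modules} {ι : Type} [Fintype ι]
    (s : ι → (Coh.structureModule X ⟶ M)) (c : ι → k) (U : X.Opens) :
    sec (member k s c) U = ∑ i, scal k U (c i) • sec (s i) U := by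
  rw [member, sec_sum]
  exact Finset.sum_congr rfl fun i _ => sec_smulMod k (s i) (c i) U

theorem member_comp [X.Over (Spec (CommRingCat.of k))] {M N : X.Modules} {ι : Type} [Fintype ι]
    (s : ι → (Coh.structureModule X ⟶ M)) (c : ι → k) (φ : M ⟶ N) :
    member k s c ≫ φ = member k (fun i => s i ≫ φ) c := by
  rw [member, member, Preadditive.sum_comp]
  exact Finset.sum_congr rfl fun i _ => Category.assoc _ _ _

theorem zeroScheme_member_le [X.Over (Spec (CommRingCat.of k))] {M : X.Modules} (hM : PicF.IsInvertible M)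
    {ι : Type} [Fintype ι] (s : ι → (Coh.structureModule X ⟶ M)) (c : ι → k) {b : X.IdealSheafData}
    (h : ∀ i, PicF2.zeroScheme M (s i) ≤ b) : PicF2.zeroScheme M (member k s c) ≤ b := by
  refine le_of_stalkIdeal fun x => ?_
  obtain ⟨U, hU, hxU, -, e, he⟩ := Pi1C.ZeroScheme.exists_affine_isGen hM ⊤ x trivial
  choose w hw using fun i => he.exists_eq (sec (s i) U)
  rw [stalkIdeal_eq _ ⟨U, hU⟩ hxU, stalkIdeal_eq _ ⟨U, hU⟩ hxU]
  refine Ideal.map_mono ?_
  rw [Pi1C.ZeroScheme.ideal_eq_span _ hM ⟨U, hU⟩ he (sec_comb k s c w hw), Ideal.span_singleton_le_iff_mem]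
  refine Ideal.sum_mem _ fun i _ => Ideal.mul_mem_left _ _ (h i ⟨U, hU⟩ ?_)
  rw [Pi1C.ZeroScheme.ideal_eq_span _ hM ⟨U, hU⟩ he (hw i)]
  exact Ideal.mem_span_singleton_self _

theorem appTop_scal {X Y : Scheme.{u}} (p : X ⟶ Spec (CommRingCat.of k)) (μ : Y ⟶ X) (c : k) :
    μ.appTop (@scal k _ X ⟨p⟩ ⊤ c) = @scal k _ Y ⟨μ ≫ p⟩ ⊤ c := by
  change μ.appTop (X.presheaf.map (homOfLE le_top).op (p.appTop _)) =
    Y.presheaf.map (homOfLE le_top).op ((μ ≫ p).appTop _)
  rw [Scheme.Hom.comp_appTop]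
  simp

theorem ps_member {X Y : Scheme.{u}} (p : X ⟶ Spec (CommRingCat.of k)) (μ : Y ⟶ X) {M : X.Modules} {ι : Type}
    [Fintype ι] (s : ι → (Coh.structureModule X ⟶ M)) (c : ι → k) :
    ps μ (@member k _ X ⟨p⟩ M ι _ s c) = @member k _ Y ⟨μ ≫ p⟩ _ ι _ (fun i => ps μ (s i)) c := by
  apply hom_ext_sec
  let _ : X.Over (Spec (CommRingCat.of k)) := ⟨p⟩
  let _ : Y.Over (Spec (CommRingCat.of k)) := ⟨μ ≫ p⟩
  rw [sec_member, ps, sec_homOf, sec_member, res_refl, K390.PnSec.pullTop_sum_smul]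
  refine Finset.sum_congr rfl fun i _ => ?_
  rw [ps, sec_homOf, res_refl]
  congr 1
  exact appTop_scal p μ (c i)

end member

/-- **Bertini on a log resolution**, polynomial form. -/
theorem bert_poly {k : Type u} [Field k] [CharZero k] {X Y : Scheme.{u}} (p : X ⟶ Spec (CommRingCat.of k))
    (μ : Y ⟶ X) [Smooth (μ ≫ p)] [CompactSpace Y] {M : X.Modules} (hM : PicF.IsInvertible M) {ι : Type} [Fintype ι]
    (s : ι → (Coh.structureModule X ⟶ M)) {r : ℕ} (E : Fin r → Y.IdealSheafData) (hE : LogNCD.IsNCD E (μ ≫ p))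
    (B : Fin r → ℕ) (hb : (⨆ i, PicF2.zeroScheme M (s i)).comap μ = ∏ i, E i ^ B i) :
    ∃ P : MvPolynomial ι k, P ≠ 0 ∧ ∀ c : ι → k, MvPolynomial.eval c P ≠ 0 → ∃ G : Y.IdealSheafData,
      (PicF2.zeroScheme M (@K27.Bert0.member k _ X ⟨p⟩ M ι _ s c)).comap μ = (∏ i, E i ^ B i) * G ∧
      LogNCD.IsNCD (K27.Bert0.snocD E G) (μ ≫ p) := by
  let _ : X.Over (Spec (CommRingCat.of k)) := ⟨p⟩
  let _ : Y.Over (Spec (CommRingCat.of k)) := ⟨μ ≫ p⟩
  have : Smooth (Y ↘ Spec (CommRingCat.of k)) := inferInstanceAs (Smooth (μ ≫ p))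
  set C := ∏ i, E i ^ B i with hCdef
  have hC : BlowUp.IsEffCartierIdeal C := isEff_prod _ _ (fun i => K911.Ncd.isEff_of_isNCD hE i) _
  have hM' : PicF.IsInvertible ((Scheme.Modules.pullback μ).obj M) := isInvertible_pullback μ hM
  have hI := Dix.IdealModCartier.isInvertible_idealMod hC
  have hN : PicF.IsInvertible (CohB1.tensorMod ((Scheme.Modules.pullback μ).obj M) (ClSub.idealMod C)) :=
    isInvertible_tensorMod hM' hI
  have hle : ∀ i, PicF2.zeroScheme _ (ps μ (s i)) ≤ C := by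
    intro i
    rw [zeroScheme_ps μ hM, ← hb]
    exact Scheme.IdealSheafData.comap_mono μ (le_iSup (fun i => PicF2.zeroScheme M (s i)) i)
  choose t ht using fun i => exists_lift hM' hC (ps μ (s i)) (hle i)
  have hgen : ⨆ i, PicF2.zeroScheme _ (t i) = ⊤ := by
    apply Picfga.SecGraph.mul_left_cancel_of_isEffCartier hC
    rw [mul_iSup', ← Scheme.IdealSheafData.one_eq_top, mul_one]
    have h1 : ∀ i, C * PicF2.zeroScheme _ (t i) = (PicF2.zeroScheme M (s i)).comap μ := fun i => by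
      rw [← zeroScheme_comp_inclTwist hM' hC, ht, zeroScheme_ps μ hM]
    simp only [h1]
    rw [← comap_iSup, hb]
  obtain ⟨P, hP, h⟩ := K27.Bert0.exists_poly_isNCD (k := k) (X := Y) (D := E) hE hN t hgen
  refine ⟨P, hP, fun c hc => ⟨PicF2.zeroScheme _ (K27.Bert0.member k t c), ?_, h c hc⟩⟩
  rw [← zeroScheme_comp_inclTwist hM' hC, member_comp]
  simp only [ht]
  rw [← ps_member, zeroScheme_ps μ hM]

/-- **Bertini on a log resolution**: the model stays, the general member `D` of `M ⊗ b` becomes monomial after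
adding the components `G_j` of its moving part to the family. -/
theorem bert {k : Type u} [Field k] [CharZero k] {X Y : Scheme.{u}} (p : X ⟶ Spec (CommRingCat.of k))
    (μ : Y ⟶ X) [IsIntegral X] [IsIntegral Y] [Smooth (μ ≫ p)] [CompactSpace Y] {M : X.Modules}
    (hM : PicF.IsInvertible M) {b : X.IdealSheafData} (hb : Gen M b) {r : ℕ} (E : Fin r → Y.IdealSheafData)
    (hE : LogNCD.IsNCD E (μ ≫ p)) (hint : ∀ i, IsIntegral (E i).subscheme) (B : Fin r → ℕ)
    (hbE : b.comap μ = ∏ i, E i ^ B i) :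
    ∃ (s : Coh.structureModule X ⟶ M) (n : ℕ) (G : Fin n → Y.IdealSheafData),
      BlowUp.IsEffCartierIdeal (PicF2.zeroScheme M s) ∧ PicF2.zeroScheme M s ≤ b ∧
      (PicF2.zeroScheme M s).comap μ = (∏ i, E i ^ B i) * ∏ j, G j ∧
      LogNCD.IsNCD (Fin.append E G) (μ ≫ p) ∧ (∀ i, IsIntegral (Fin.append E G i).subscheme) ∧
      Function.Injective (Fin.append E G) ∧
      (∀ (y : Y) (i j : Fin n), y ∈ (G i).support → y ∈ (G j).support → i = j) := by
  obtain ⟨r', s, hs⟩ := hb
  rw [← hs] at hbE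
  obtain ⟨P, hP, h⟩ := bert_poly p μ hM s E hE B hbE
  have : Infinite k := inferInstance
  obtain ⟨c, hc⟩ := K660.KolUp.exists_eval_ne_zero P hP
  obtain ⟨G, hG, hN⟩ := h c hc
  obtain ⟨n, G', hG'⟩ := exists_split (μ ≫ p) G (by
    have h1 := K27.Strata.smooth_component (μ ≫ p) hN (Fin.last r)
    have h2 : K27.Bert0.snocD E G (Fin.last r) = G := Fin.snoc_last _ _
    rwa [h2] at h1)
  have hint' : ∀ i, IsIntegral (Fin.append E G' i).subscheme := by
    intro i
    refine Fin.addCases (fun i => ?_) (fun i => ?_) i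
    · rw [Fin.append_left]; exact hint i
    · rw [Fin.append_right]; exact hG'.integral i
  have hN' := isNCD_append hN hG'
  let _ : X.Over (Spec (CommRingCat.of k)) := ⟨p⟩
  have hGeff : BlowUp.IsEffCartierIdeal G := by
    have h1 := K911.Ncd.isEff_of_isNCD hN (Fin.last r)
    simpa only [K27.Bert0.snocD, Fin.snoc_last] using h1
  refine ⟨K27.Bert0.member k s c, n, G', ?_, ?_, ?_, hN', hint',
    injective_of_isNCD hN' fun i => support_nonempty_of_isIntegral _ (hint' i), hG'.disj⟩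
  · refine K513.Theta1.isEffCartierIdeal_zeroScheme hM _ ?_
    intro h0
    have h1 : (PicF2.zeroScheme M (K27.Bert0.member k s c)) = ⊥ := by
      rw [h0]
      refine zeroScheme_eq_of_local hM _ _ fun y => ?_
      obtain ⟨U, hU, hyU, -, e, he⟩ := Pi1C.ZeroScheme.exists_affine_isGen hM ⊤ y trivial
      refine ⟨⟨U, hU⟩, e, 0, hyU, he, ?_, ?_⟩
      · rw [K27.SecScal.sec_zero, zero_smul]
      · rw [Scheme.IdealSheafData.ideal_bot, Pi.bot_apply, Ideal.span_singleton_zero]
    have h2 : BlowUp.IsEffCartierIdeal ((∏ i, E i ^ B i) * G) :=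
      Divis.EffCartier.isEff_mul (isEff_prod _ _ (fun i => K911.Ncd.isEff_of_isNCD hE i) _) hGeff
    rw [← hG, h1, Scheme.IdealSheafData.comap_bot] at h2
    obtain ⟨U, hU, g, hg, hbot⟩ := h2 (genericPoint Y)
    rw [Scheme.IdealSheafData.ideal_bot, Pi.bot_apply, eq_comm, Ideal.span_singleton_eq_bot] at hbot
    have : Nonempty (U.1 : Scheme.{u}) := ⟨⟨_, hU⟩⟩
    rw [hbot] at hg
    exact nonZeroDivisors.ne_zero hg rfl
  · rw [← hs]
    exact zeroScheme_member_le hM s c fun i => le_iSup (fun i => PicF2.zeroScheme M (s i)) i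
  · rw [hG, ← hG'.eq_prod]

/-- the class of the divisor -/
theorem nonempty_iso_of_zeroScheme {M : X.Modules} (hM : PicF.IsInvertible M) (s : Coh.structureModule X ⟶ M)
    (hs : BlowUp.IsEffCartierIdeal (PicF2.zeroScheme M s)) :
    Nonempty (CohB1.tensorMod (ClSub.idealMod (PicF2.zeroScheme M s)) M ≅ Coh.structureModule X) := by
  have h1 := Fga.ZeroClass.mk_eq_inv_dcl hM (sec s ⊤) (K513.Theta1.isZeroIdeal_zeroScheme hM s) hs
  have h2 : Grpsch.PicGrp.mk (ClSub.idealMod (PicF2.zeroScheme M s)) (Dix.IdealModCartier.isInvertible_idealMod hs) *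
      Grpsch.PicGrp.mk M hM = 1 := by
    rw [h1]
    exact mul_inv_cancel _
  rw [Grpsch.PicGrp.mk_mul_mk, Grpsch.PicGrp.mk_eq_one_iff] at h2
  exact h2

end K165.Bert
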