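import Groth.Agent.LogNCD.K913.TauAff
import Groth.Agent.VarietyB.GGStalk
import Groth.Agent.VarietyB.GenLocusTensor
import Groth.Agent.Coherent.K49.RegTwist
import Groth.Agent.Cyc.K305.DualSec
import Groth.Agent.Lef.K184.PowMono
import Groth.Agent.Divis.CartierBasic
import Groth.Agent.Ega2.AmpleGlobGen
import Groth.Agent.AbVar.K513.Theta1
import Groth.Agent.Pi1C.ZeroScheme
import Groth.Agent.Variety.K428.GenPush
import Groth.Agent.Surf.K459.DoubleDual
import Groth.Agent.Fga.TensorList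
import Groth.Agent.Picfga.ZeroDiv
import Groth.Agent.Vanish.K660.Semi

/-!
# Ideals generated by finitely many sections of an invertible module

`Gen M b`: finitely many global sections of the invertible module `M` have common zero ideal exactly `b`
("`M ⊗ b` is globally generated").
-/

set_option autoImplicit false
universe u

open CategoryTheory CategoryTheory.Limits AlgebraicGeometry TopologicalSpace Opposite

namespace K165.GenId

open Groth.Agent Groth.Agent.Picfga.ZeroDef Groth.Agent.Fdesc.LocGen Groth.Agent.Divis.CartierBasic Groth.Agent.CycB.StalkExact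

variable {X Y : Scheme.{u}}

/-- `M ⊗ b` is generated by finitely many global sections -/
def Gen (M : X.Modules) (b : X.IdealSheafData) : Prop :=
  ∃ (r : ℕ) (s : Fin r → (Coh.structureModule X ⟶ M)), ⨆ i, PicF2.zeroScheme M (s i) = b

/-- the function defined by a section of the ideal module -/
theorem inclTwist_tmul (M : X.Modules) (b : X.IdealSheafData) (U : X.Opens) (m : Γ(M, U))
    (a : Γ(ClSub.idealMod b, U)) :
    (LogNCD.inclTwist M b).app U (tmul m a) = (OmegaSh.idealSect b U a) • m :=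
  K913.TauAff.inclTwist_tmul M b U m a

theorem exists_inclTwist {M : X.Modules} (b : X.IdealSheafData) (U : X.affineOpens) {e : Γ(M, U.1)} (he : IsGen e)
    (t : Γ(CohB1.tensorMod M (ClSub.idealMod b), U.1)) :
    ∃ a ∈ b.ideal U, (LogNCD.inclTwist M b).app U.1 t = a • e := by
  obtain ⟨m, rfl⟩ := Coherent.K49.RegTwist.exists_eq _ he t
  exact ⟨_, (K922.Quot.exists_idealSect_iff b U _).1 ⟨m, rfl⟩, inclTwist_tmul M b U.1 e m⟩

theorem exists_preimage {M : X.Modules} (b : X.IdealSheafData) (U : X.affineOpens) (e : Γ(M, U.1))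
    {a : Γ(X, U.1)} (ha : a ∈ b.ideal U) :
    ∃ t : Γ(CohB1.tensorMod M (ClSub.idealMod b), U.1), (LogNCD.inclTwist M b).app U.1 t = a • e := by
  obtain ⟨m, hm⟩ := (K922.Quot.exists_idealSect_iff b U a).2 ha
  exact ⟨tmul e m, by rw [inclTwist_tmul, hm]⟩

/-- the ideal of zeros of a section of `M ⊗ b` lies in `b` -/
theorem zeroScheme_comp_le {M : X.Modules} (hM : PicF.IsInvertible M) (b : X.IdealSheafData)
    (t : Coh.structureModule X ⟶ CohB1.tensorMod M (ClSub.idealMod b)) :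
    PicF2.zeroScheme M (t ≫ LogNCD.inclTwist M b) ≤ b := by
  refine le_of_stalkIdeal fun x => ?_
  obtain ⟨U, hU, hxU, -, e, he⟩ := Pi1C.ZeroScheme.exists_affine_isGen hM ⊤ x trivial
  obtain ⟨a, ha, hta⟩ := exists_inclTwist b ⟨U, hU⟩ he (sec t U)
  rw [stalkIdeal_eq _ ⟨U, hU⟩ hxU, stalkIdeal_eq _ ⟨U, hU⟩ hxU]
  refine Ideal.map_mono ?_
  rw [Pi1C.ZeroScheme.ideal_eq_span _ hM ⟨U, hU⟩ he (c := a) (by rw [sec_comp]; exact hta),
    Ideal.span_singleton_le_iff_mem]
  exact ha

/-- all sections of a globally generated `M ⊗ b` generate `b` -/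
theorem iSup_zeroScheme_eq {M : X.Modules} (hM : PicF.IsInvertible M) (b : X.IdealSheafData)
    (h : Curv2.IsGloballyGenerated (CohB1.tensorMod M (ClSub.idealMod b))) :
    ⨆ t : Coh.structureModule X ⟶ CohB1.tensorMod M (ClSub.idealMod b),
      PicF2.zeroScheme M (t ≫ LogNCD.inclTwist M b) = b := by
  set I' := ⨆ t : Coh.structureModule X ⟶ CohB1.tensorMod M (ClSub.idealMod b),
      PicF2.zeroScheme M (t ≫ LogNCD.inclTwist M b) with hI'
  refine le_antisymm (iSup_le fun t => zeroScheme_comp_le hM b t) ?_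
  refine le_of_stalkIdeal fun x => ?_
  obtain ⟨U, hU, hxU, -, e, he⟩ := Pi1C.ZeroScheme.exists_affine_isGen hM ⊤ x trivial
  rw [stalkIdeal_eq b ⟨U, hU⟩ hxU, Ideal.map_le_iff_le_comap]
  intro a ha
  rw [Ideal.mem_comap]
  obtain ⟨T, hT⟩ := exists_preimage b ⟨U, hU⟩ e ha
  let F := CohB1.tensorMod M (ClSub.idealMod b)
  let ψ : F ⟶ M := LogNCD.inclTwist M b
  let L := stalkLin ψ x
  let N : Submodule (X.presheaf.stalk x) (M.presheaf.stalk x) :=
    Submodule.map (LinearMap.toSpanSingleton (X.presheaf.stalk x) _ (M.presheaf.germ U x hxU e)) (stalkIdeal I' x)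
  have h1 : LinearMap.range L ≤ N := by
    rw [LinearMap.range_eq_map, ← (VarietyB.GGStalk.isGloballyGenerated_iff_span F).1 h x, Submodule.map_span,
      Submodule.span_le]
    rintro _ ⟨_, ⟨t, rfl⟩, rfl⟩
    beta_reduce
    have h0 : L (F.presheaf.germ ⊤ x trivial t) = M.presheaf.germ ⊤ x trivial (ψ.app ⊤ t) :=
      stalkLin_germ ψ x _ t
    rw [h0]
    obtain ⟨c, hc⟩ := he.exists_eq (sec (homOf t ≫ ψ) U)
    refine ⟨X.presheaf.germ U x hxU c, ?_, ?_⟩
    · have h2 : PicF2.zeroScheme M (homOf t ≫ ψ) ≤ I' := le_iSup (fun t : Coh.structureModule X ⟶ F =>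
        PicF2.zeroScheme M (t ≫ ψ)) (homOf t)
      refine stalkIdeal_mono h2 x ?_
      rw [stalkIdeal_eq _ ⟨U, hU⟩ hxU]
      refine Ideal.mem_map_of_mem _ ?_
      rw [Pi1C.ZeroScheme.ideal_eq_span _ hM ⟨U, hU⟩ he hc]
      exact Ideal.mem_span_singleton_self c
    · have h3 : res M le_top (ψ.app ⊤ t) = c • e := by
        rw [← hc, ← res_sec _ (le_top : U ≤ ⊤), sec_comp, sec_homOf, res_refl]
      rw [LinearMap.toSpanSingleton_apply, ← germ_smul x hxU c e, ← h3]
      exact M.presheaf.germ_res_apply (homOfLE le_top) x hxU (ψ.app ⊤ t)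
  have h4 : L (F.presheaf.germ U x hxU T) ∈ N := h1 ⟨_, rfl⟩
  have h5 : L (F.presheaf.germ U x hxU T) = M.presheaf.germ U x hxU (ψ.app U T) := stalkLin_germ ψ x _ T
  obtain ⟨c, hc, hc'⟩ := h4
  rw [h5, hT, LinearMap.toSpanSingleton_apply, germ_smul x hxU a e] at hc'
  have h6 := (K184.PowMono.isGen_stalk he x hxU).1 hc'
  rw [show X.presheaf.germ U x hxU a = c from h6.symm]
  exact hc

/-- finitely many ideal sheaves suffice -/
theorem exists_finset_iSup [CompactSpace X] [IsLocallyNoetherian X] {ι : Type*} (Z : ι → X.IdealSheafData) :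
    ∃ T : Finset ι, ⨆ i : T, Z i = ⨆ i, Z i := by
  classical
  have hloc : ∀ U : X.affineOpens, ∃ T : Finset ι, (⨆ i, Z i).ideal U ≤ ⨆ i : T, (Z i).ideal U := by
    intro U
    have := IsLocallyNoetherian.component_noetherian (X := X) U
    have hfg : ((⨆ i, Z i).ideal U).FG := IsNoetherian.noetherian _
    have hfg' := (Submodule.fg_iff_compact _).1 hfg
    have h1 : (⨆ i, Z i).ideal U ≤ ⨆ i, (Z i).ideal U := by
      rw [Scheme.IdealSheafData.ideal_iSup, iSup_apply]
    obtain ⟨T, hT⟩ := CompleteLattice.IsCompactElement.exists_finset_of_le_iSup _ hfg' _ h1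
    refine ⟨T, hT.trans ?_⟩
    exact iSup₂_le fun i hi => le_iSup (fun i : T => (Z i).ideal U) ⟨i, hi⟩
  choose T hT using hloc
  choose U hxU using exists_affine (X := X)
  obtain ⟨t, ht⟩ := CompactSpace.elim_nhds_subcover (X := X) (fun x => ((U x).1 : Set X))
    (fun x => (U x).1.isOpen.mem_nhds (hxU x))
  refine ⟨t.biUnion fun x => T (U x), le_antisymm (iSup_le fun i => le_iSup Z i) ?_⟩
  refine Scheme.IdealSheafData.le_of_iSup_eq_top (fun x : t => U x) ?_ fun x => ?_
  · rw [eq_top_iff]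
    intro x _
    have hx : x ∈ ⋃ y ∈ t, ((U y).1 : Set X) := by rw [ht]; trivial
    simp only [Set.mem_iUnion] at hx
    obtain ⟨y, hy, hxy⟩ := hx
    exact Opens.mem_iSup.2 ⟨⟨y, hy⟩, hxy⟩
  · refine (hT (U x)).trans (iSup_le fun i => ?_)
    have h2 : Z i ≤ ⨆ i : (t.biUnion fun x => T (U x)), Z i :=
      le_iSup (fun i : (t.biUnion fun x => T (U x)) => Z i) ⟨i.1, Finset.mem_biUnion.2 ⟨x.1, x.2, i.2⟩⟩
    exact h2 (U x)

theorem gen_of_gg [CompactSpace X] [IsLocallyNoetherian X] {M : X.Modules} (hM : PicF.IsInvertible M)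
    (b : X.IdealSheafData) (h : Curv2.IsGloballyGenerated (CohB1.tensorMod M (ClSub.idealMod b))) : Gen M b := by
  obtain ⟨T, hT⟩ := exists_finset_iSup (fun t : Coh.structureModule X ⟶ CohB1.tensorMod M (ClSub.idealMod b) =>
      PicF2.zeroScheme M (t ≫ LogNCD.inclTwist M b))
  refine ⟨T.card, fun i => (T.equivFin.symm i).1 ≫ LogNCD.inclTwist M b, ?_⟩
  refine Eq.trans ?_ (hT.trans (iSup_zeroScheme_eq hM b h))
  exact T.equivFin.symm.iSup_comp (g := fun t : T => PicF2.zeroScheme M (t.1 ≫ LogNCD.inclTwist M b))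

/-- for `A` ample, `A ^ m ⊗ b` is generated by sections for `m` large -/
theorem exists_gen [IsNoetherian X] [QuasiSeparatedSpace X] {A : X.Modules} (hA : CohB1.IsAmple A)
    (b : X.IdealSheafData) : ∃ m₀ : ℕ, ∀ m, m₀ ≤ m → Gen (CohB1.tensorPow A m) b := by
  have hcoh : Coh.IsCoh (ClSub.idealMod b) := K428.GenPush.isCoh_idealMod b
  obtain ⟨m₀, hm₀⟩ := Ega2.AmpleGlobGen.exists_globGen hA hcoh
  refine ⟨m₀, fun m hm => gen_of_gg (isInvertible_tensorPow hA.1 m) b ?_⟩
  exact K459.DoubleDual.isGloballyGenerated_of_iso (Fga.TensorList.tensorComm _ _) (hm₀ m hm)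

/-- zero ideals are local -/
theorem zeroScheme_eq_of_local {M : X.Modules} (hM : PicF.IsInvertible M) (s : Coh.structureModule X ⟶ M)
    (I : X.IdealSheafData)
    (h : ∀ y : X, ∃ (U : X.affineOpens) (e : Γ(M, U.1)) (a : Γ(X, U.1)), y ∈ U.1 ∧ IsGen e ∧ sec s U.1 = a • e ∧
      I.ideal U = Ideal.span {a}) : PicF2.zeroScheme M s = I := by
  refine Picfga.ZeroDiv.isZeroIdeal_unique hM (K513.Theta1.isZeroIdeal_zeroScheme hM s)
    (Picfga.ZeroDiv.isZeroIdeal_of_local fun y => ?_)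
  obtain ⟨U, e, a, hy, he, ha, hI⟩ := h y
  exact ⟨U, e, a, hy, he, by rw [res_sec]; exact ha, hI⟩

theorem zeroScheme_comp_iso {M N : X.Modules} (hM : PicF.IsInvertible M) (hN : PicF.IsInvertible N) (e : M ≅ N)
    (s : Coh.structureModule X ⟶ M) : PicF2.zeroScheme N (s ≫ e.hom) = PicF2.zeroScheme M s := by
  refine Picfga.ZeroDiv.isZeroIdeal_unique hN (K513.Theta1.isZeroIdeal_zeroScheme hN _) ?_
  rw [sec_comp]
  exact Picfga.ZeroDiv.isZeroIdeal_of_iso e (K513.Theta1.isZeroIdeal_zeroScheme hM s)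

theorem Gen.of_iso {M N : X.Modules} (hM : PicF.IsInvertible M) (hN : PicF.IsInvertible N) (e : M ≅ N)
    {b : X.IdealSheafData} (h : Gen M b) : Gen N b := by
  obtain ⟨r, s, hs⟩ := h
  exact ⟨r, fun i => s i ≫ e.hom, by simp only [zeroScheme_comp_iso hM hN]; exact hs⟩

theorem Gen.of_fintype {M : X.Modules} {b : X.IdealSheafData} {ι : Type} [Fintype ι]
    (s : ι → (Coh.structureModule X ⟶ M)) (hs : ⨆ i, PicF2.zeroScheme M (s i) = b) : Gen M b :=
  ⟨Fintype.card ι, fun i => s ((Fintype.equivFin ι).symm i), by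
    rw [← hs]
    exact (Fintype.equivFin ι).symm.iSup_comp (g := fun t => PicF2.zeroScheme M (s t))⟩

theorem zeroScheme_tmulHom {M N : X.Modules} (hM : PicF.IsInvertible M) (hN : PicF.IsInvertible N)
    (s : Coh.structureModule X ⟶ M) (t : Coh.structureModule X ⟶ N) :
    PicF2.zeroScheme (CohB1.tensorMod M N) (VarietyB.GenLocusTensor.tmulHom s t) =
      PicF2.zeroScheme M s * PicF2.zeroScheme N t := by
  refine zeroScheme_eq_of_local (isInvertible_tensorMod hM hN) _ _ fun y => ?_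
  obtain ⟨U, hU, hyU, -, e, he⟩ := Pi1C.ZeroScheme.exists_affine_isGen hM ⊤ y trivial
  obtain ⟨V, hV, hyV, hVU, e', he'⟩ := Pi1C.ZeroScheme.exists_affine_isGen hN U y hyU
  obtain ⟨a, ha⟩ := (he.res hVU).exists_eq (sec s V)
  obtain ⟨a', ha'⟩ := he'.exists_eq (sec t V)
  refine ⟨⟨V, hV⟩, tmul (res M hVU e) e', a * a', hyV, (he.res hVU).tmul he', ?_, ?_⟩
  · rw [VarietyB.GenLocusTensor.sec_tmulHom, ha, ha', smul_tmul, tmul_smul, smul_smul]
  · rw [Scheme.IdealSheafData.ideal_mul, Pi.mul_apply,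
      Pi1C.ZeroScheme.ideal_eq_span s hM ⟨V, hV⟩ (he.res hVU) ha,
      Pi1C.ZeroScheme.ideal_eq_span t hN ⟨V, hV⟩ he' ha', Ideal.span_singleton_mul_span_singleton]

theorem iSup_mul_iSup {ι κ : Type*} (I : ι → X.IdealSheafData) (J : κ → X.IdealSheafData) :
    ⨆ p : ι × κ, I p.1 * J p.2 = (⨆ i, I i) * ⨆ j, J j := by
  ext U : 2
  rw [Scheme.IdealSheafData.ideal_mul, Pi.mul_apply, Scheme.IdealSheafData.ideal_iSup, iSup_apply,
    Scheme.IdealSheafData.ideal_iSup, iSup_apply, Scheme.IdealSheafData.ideal_iSup, iSup_apply,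
    Ideal.iSup_mul, iSup_prod]
  refine iSup_congr fun i => ?_
  rw [Ideal.mul_iSup]
  rfl

theorem Gen.mul {M N : X.Modules} (hM : PicF.IsInvertible M) (hN : PicF.IsInvertible N)
    {b c : X.IdealSheafData} (h : Gen M b) (h' : Gen N c) : Gen (CohB1.tensorMod M N) (b * c) := by
  obtain ⟨r, s, hs⟩ := h
  obtain ⟨r', t, ht⟩ := h'
  refine Gen.of_fintype (fun p : Fin r × Fin r' => VarietyB.GenLocusTensor.tmulHom (s p.1) (t p.2)) ?_
  simp only [zeroScheme_tmulHom hM hN]
  rw [← hs, ← ht]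
  exact iSup_mul_iSup (fun i => PicF2.zeroScheme M (s i)) (fun j => PicF2.zeroScheme N (t j))

/-- the unit section of the structure module -/
theorem zeroScheme_id : PicF2.zeroScheme (Coh.structureModule X) (𝟙 _) = ⊤ := by
  refine zeroScheme_eq_of_local isInvertible_structureModule _ _ fun y => ?_
  obtain ⟨U, hyU⟩ := exists_affine y
  refine ⟨U, sec (𝟙 _) U.1, 1, hyU, ?_, (one_smul _ _).symm, ?_⟩
  · rw [← le_genLocus_iff, VarietyB.GenLocusTensor.genLocus_id]
    exact le_top
  · rw [Scheme.IdealSheafData.ideal_top, Pi.top_apply, Ideal.span_singleton_one]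

theorem Gen.one : Gen (Coh.structureModule X) ⊤ :=
  Gen.of_fintype (ι := Unit) (fun _ => 𝟙 _) (by rw [zeroScheme_id, iSup_const])

/-- the pullback of a section -/
noncomputable def ps (f : Y ⟶ X) {M : X.Modules} (s : Coh.structureModule X ⟶ M) :
    Coh.structureModule Y ⟶ (Scheme.Modules.pullback f).obj M :=
  homOf (pullTop f (sec s ⊤))

theorem zeroScheme_ps (f : Y ⟶ X) {M : X.Modules} (hM : PicF.IsInvertible M) (s : Coh.structureModule X ⟶ M) :
    PicF2.zeroScheme _ (ps f s) = (PicF2.zeroScheme M s).comap f := by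
  have hM' : PicF.IsInvertible ((Scheme.Modules.pullback f).obj M) := isInvertible_pullback f hM
  refine Picfga.ZeroDiv.isZeroIdeal_unique hM' (K513.Theta1.isZeroIdeal_zeroScheme hM' _) ?_
  have h := Picfga.ZeroDiv.isZeroIdeal_pullback f hM (K513.Theta1.isZeroIdeal_zeroScheme hM s)
  rw [ps, sec_homOf, res_refl]
  exact h

theorem comap_iSup (f : Y ⟶ X) {ι : Type*} (I : ι → X.IdealSheafData) : (⨆ i, I i).comap f = ⨆ i, (I i).comap f :=
  (Scheme.IdealSheafData.map_gc f).l_iSup

theorem Gen.comap (f : Y ⟶ X) {M : X.Modules} (hM : PicF.IsInvertible M) {b : X.IdealSheafData} (h : Gen M b) :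
    Gen ((Scheme.Modules.pullback f).obj M) (b.comap f) := by
  obtain ⟨r, s, hs⟩ := h
  refine ⟨r, fun i => ps f (s i), ?_⟩
  simp only [zeroScheme_ps f hM]
  rw [← comap_iSup, hs]

theorem Gen.pow {M : X.Modules} (hM : PicF.IsInvertible M) {b : X.IdealSheafData} (h : Gen M b) (n : ℕ) :
    Gen (CohB1.tensorPow M n) (b ^ n) := by
  induction n with
  | zero => rw [pow_zero]; exact Gen.one
  | succ n ih => rw [pow_succ]; exact ih.mul (isInvertible_tensorPow hM n) hM h

/-- `M ⊗ O` is generated by sections iff `M` is globally generated -/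
theorem gen_top_iff [CompactSpace X] {M : X.Modules} (hM : PicF.IsInvertible M) :
    Gen M ⊤ ↔ Curv2.IsGloballyGenerated M := by
  constructor
  · rintro ⟨r, s, hs⟩
    refine K660.Semi.gg_of_sections fun x => ?_
    by_contra hx
    push Not at hx
    let Z : Closeds X := ⟨closure {x}, isClosed_closure⟩
    have h1 : ⨆ i, PicF2.zeroScheme M (s i) ≤ Scheme.IdealSheafData.vanishingIdeal Z := by
      refine iSup_le fun i => ?_
      rw [← Scheme.IdealSheafData.le_support_iff_le_vanishingIdeal]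
      refine closure_minimal ?_ (PicF2.zeroScheme M (s i)).support.isClosed
      rintro _ rfl
      exact (Pi1C.ZeroScheme.mem_support_iff (s i) hM _).2 (hx (s i))
    rw [hs, ← Scheme.IdealSheafData.le_support_iff_le_vanishingIdeal, Scheme.IdealSheafData.support_top] at h1
    have h3 : x ∈ Z := subset_closure rfl
    exact h1 h3
  · intro h
    exact K660.KolUp.exists_sections hM h

end K165.GenId
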