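import Groth.Agent.AdjLin.K134.JacExc
import Groth.Agent.AdjLin.K134.OrdId
import Groth.Agent.AdjLin.K165.LogRes
import Groth.Agent.AdjLin.K165.Split
import Groth.Agent.Divis.CartierStalk
import Groth.Agent.Ega4late.H533.NormalAlg
import Groth.Agent.Curves.K323.NormBC
import Groth.Agent.Surf.K457.BlowMult
import Groth.Agent.Divis.StalkPrime
import Groth.Agent.Divis.EffIntegral

/-!
# Places of a model: generic points of the members of the family

* `xi D h`: the generic point of an integral closed subscheme; closure, stalk ideal;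
* `dvr_xi`: for `D` effective Cartier its local ring is a discrete valuation ring; `ordI_self`, `ordI_other`, `ordI_prod`;
* `exists_strict`: strict transforms under a proper birational morphism.
-/

set_option autoImplicit false
universe u

open CategoryTheory CategoryTheory.Limits AlgebraicGeometry TopologicalSpace IsLocalRing

namespace K165.Places

open Groth.Agent Groth.Agent.Divis.CartierBasic K134.OrdId K84.Iface

variable {X Y : Scheme.{u}}

/-- the generic point of an integral closed subscheme -/
noncomputable def xi (D : Y.IdealSheafData) (_ : IsIntegral D.subscheme) : Y :=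
  D.subschemeι (genericPoint D.subscheme)

variable {D D' : Y.IdealSheafData} (h : IsIntegral D.subscheme) (h' : IsIntegral D'.subscheme)

theorem closure_xi : closure {xi D h} = (D.support : Set Y) := by
  have h1 : closure {genericPoint D.subscheme} = (Set.univ : Set D.subscheme) := genericPoint_spec _
  have h2 := D.subschemeι.isClosedEmbedding.isClosedMap.closure_image_eq_of_continuous D.subschemeι.continuous
    {genericPoint D.subscheme}
  rw [Set.image_singleton, h1, Set.image_univ, D.range_subschemeι] at h2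
  exact h2

theorem xi_mem : xi D h ∈ D.support := by
  have h1 : xi D h ∈ closure {xi D h} := subset_closure rfl
  rwa [closure_xi] at h1

theorem mem_support_iff (y : Y) : y ∈ D.support ↔ xi D h ⤳ y := by
  rw [specializes_iff_mem_closure, closure_xi]
  rfl

theorem stalkIdeal_xi : stalkIdeal D (xi D h) = maximalIdeal (Y.presheaf.stalk (xi D h)) := by
  have h1 := K457.BlowMult.stalkIdeal_generic D.subschemeι
  rw [Scheme.IdealSheafData.ker_subschemeι] at h1
  exact h1

theorem dvr_xi [IsIntegral Y] [IsLocallyNoetherian Y] (hD : BlowUp.IsEffCartierIdeal D) :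
    IsDiscreteValuationRing (Y.presheaf.stalk (xi D h)) := by
  obtain ⟨g, hg, hDg⟩ := exists_stalkIdeal_eq_span hD (xi D h)
  rw [stalkIdeal_xi] at hDg
  exact Groth.Agent.Ega4late.H533.NormalAlg.isDiscreteValuationRing_of_generator g (nonZeroDivisors.ne_zero hg) hDg

theorem ordI_self [IsIntegral Y] [IsDiscreteValuationRing (Y.presheaf.stalk (xi D h))] : ordI D (xi D h) = 1 := by
  obtain ⟨π, hπ⟩ := IsDiscreteValuationRing.exists_irreducible (Y.presheaf.stalk (xi D h))
  rw [ordI, stalkIdeal_xi, hπ.maximalIdeal_eq, ord_span]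
  exact IsDiscreteValuationRing.addVal_uniformizer hπ

theorem le_of_xi_mem (hm : xi D h ∈ D'.support) : D' ≤ D := by
  have h1 : (D.support : Set Y) ⊆ D'.support := by
    rw [← closure_xi h]
    exact closure_minimal (by simpa using hm) D'.support.isClosed
  have h2 : D' ≤ Scheme.IdealSheafData.vanishingIdeal D.support :=
    Scheme.IdealSheafData.le_support_iff_le_vanishingIdeal.1 h1
  rw [Scheme.IdealSheafData.vanishingIdeal_support, Divis.EffIntegral.radical_eq_self] at h2
  exact h2

theorem xi_eq_of_xi_mem [IsIntegral Y] [IsLocallyNoetherian Y] (hD : BlowUp.IsEffCartierIdeal D)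
    (hD' : BlowUp.IsEffCartierIdeal D') (hm : xi D h ∈ D'.support) : xi D' h' = xi D h := by
  have := dvr_xi h hD
  have hp := Divis.StalkPrime.isPrime_stalkIdeal D' hm
  have h1 := Divis.StalkPrime.ptOf_stalkIdeal D' hm
  have h2 := Divis.StalkPrime.ptOf_stalkIdeal D (xi_mem h)
  have h3 : stalkIdeal D' (xi D h) = stalkIdeal D (xi D h) := by
    rw [stalkIdeal_xi]
    refine IsLocalRing.eq_maximalIdeal (hp.isMaximal ?_)
    obtain ⟨g, hg, hDg⟩ := exists_stalkIdeal_eq_span hD' (xi D h)
    rw [hDg, Ne, Ideal.span_singleton_eq_bot]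
    exact nonZeroDivisors.ne_zero hg
  rw [xi, xi, ← h1, ← h2]
  congr 1
  exact PrimeSpectrum.ext h3

theorem eq_of_xi_mem [IsIntegral Y] [IsLocallyNoetherian Y] (hD : BlowUp.IsEffCartierIdeal D)
    (hD' : BlowUp.IsEffCartierIdeal D') (h' : IsIntegral D'.subscheme) (hm : xi D h ∈ D'.support) : D = D' := by
  refine le_antisymm (le_of_xi_mem h' ?_) (le_of_xi_mem h hm)
  rw [xi_eq_of_xi_mem h h' hD hD' hm]
  exact xi_mem h

section family

variable {r : ℕ} {E : Fin r → Y.IdealSheafData} (hint : ∀ i, IsIntegral (E i).subscheme)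
  (hE : ∀ i, BlowUp.IsEffCartierIdeal (E i)) (hinj : Function.Injective E) [IsIntegral Y] [IsLocallyNoetherian Y]

include hE hinj in
theorem xi_notMem {i j : Fin r} (hij : i ≠ j) : xi (E i) (hint i) ∉ (E j).support := fun hm =>
  hij (hinj (eq_of_xi_mem (hint i) (hE i) (hE j) (hint j) hm))

include hE hinj in
theorem ordI_other {i j : Fin r} (hij : i ≠ j) [IsDiscreteValuationRing (Y.presheaf.stalk (xi (E i) (hint i)))] :
    ordI (E j) (xi (E i) (hint i)) = 0 :=
  (ordI_eq_zero_iff _ _).2 (xi_notMem hint hE hinj hij)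

include hE hinj in
theorem ordI_prod_pow (a : Fin r → ℕ) (i : Fin r) [IsDiscreteValuationRing (Y.presheaf.stalk (xi (E i) (hint i)))] :
    ordI (∏ j, E j ^ a j) (xi (E i) (hint i)) = a i := by
  rw [ordI_prod, Finset.sum_eq_single i]
  · rw [ordI_pow, ordI_self]; simp
  · intro j _ hj
    rw [ordI_pow, ordI_other hint hE hinj (Ne.symm hj), smul_zero]
  · intro hi; exact (hi (Finset.mem_univ i)).elim

include hint hE hinj in
/-- the exponents are determined -/
theorem exponents_unique {a b : Fin r → ℕ} (hab : ∏ j, E j ^ a j = ∏ j, E j ^ b j) : a = b := by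
  funext i
  have := dvr_xi (hint i) (hE i)
  have h1 := ordI_prod_pow hint hE hinj a i
  rw [hab, ordI_prod_pow hint hE hinj b i] at h1
  exact_mod_cast h1.symm

end family

/-- the image of an integral closed subset -/
theorem image_support (μ : Y ⟶ X) [IsProper μ] : μ '' (D.support : Set Y) = closure {μ (xi D h)} := by
  rw [← closure_xi h]
  have h1 := μ.isClosedMap.closure_image_eq_of_continuous μ.continuous {xi D h}
  rw [Set.image_singleton] at h1
  exact h1.symm

theorem mem_image_iff (μ : Y ⟶ X) [IsProper μ] (x : X) : (∃ y ∈ D.support, μ y = x) ↔ μ (xi D h) ⤳ x := by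
  rw [specializes_iff_mem_closure, ← image_support h μ]
  rfl

/-- a point of a proper birational modification over a point with a discrete valuation ring -/
theorem exists_point [IsIntegral X] [IsIntegral Y] [IsLocallyNoetherian X]
    (hX : ∀ x : X, IsIntegrallyClosed (X.presheaf.stalk x)) (f : Y ⟶ X) [IsProper f] (hf : IsBir f) (x : X)
    [IsDiscreteValuationRing (X.presheaf.stalk x)] :
    ∃ y : Y, f y = x ∧ Function.Bijective (f.stalkMap y).hom := by
  obtain ⟨V, hV, -, h2⟩ := K134.JacExc.exists_iso_locus hX f hf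
  have hx : x ∈ V := by
    by_contra hx
    have h3 := h2 x hx
    rw [IsDiscreteValuationRing.ringKrullDim_eq_one] at h3
    norm_cast at h3
  obtain ⟨y, hy⟩ := K588.Bir.exists_of_isIso_restrict f hV hx
  refine ⟨y, hy, ?_⟩
  have := K588.Bir.isIso_stalkMap_of_mem f hV (x := y) (by rw [hy]; exact hx)
  exact (ConcreteCategory.isIso_iff_bijective _).1 this

/-- a codimension one point of an integral effective Cartier divisor is its generic point -/
theorem eq_xi_of_mem [IsIntegral Y] [IsLocallyNoetherian Y] (hD : BlowUp.IsEffCartierIdeal D) {y : Y}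
    [IsDiscreteValuationRing (Y.presheaf.stalk y)] (hy : y ∈ D.support) : y = xi D h := by
  have hp := Divis.StalkPrime.isPrime_stalkIdeal D hy
  have h1 := Divis.StalkPrime.ptOf_stalkIdeal D hy
  have h3 : stalkIdeal D y = maximalIdeal (Y.presheaf.stalk y) := by
    refine IsLocalRing.eq_maximalIdeal (hp.isMaximal ?_)
    obtain ⟨g, hg, hDg⟩ := exists_stalkIdeal_eq_span hD y
    rw [hDg, Ne, Ideal.span_singleton_eq_bot]
    exact nonZeroDivisors.ne_zero hg
  rw [xi, ← h1]
  have h4 : (⟨stalkIdeal D y, hp⟩ : PrimeSpectrum (Y.presheaf.stalk y)) = closedPoint (Y.presheaf.stalk y) :=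
    PrimeSpectrum.ext h3
  rw [h4]
  exact (Scheme.fromSpecStalk_closedPoint).symm

theorem dvr_of_bijective {R S : Type u} [CommRing R] [IsDomain R] [IsDiscreteValuationRing R] [CommRing S]
    [IsDomain S] (φ : R →+* S) (hφ : Function.Bijective φ) : IsDiscreteValuationRing S :=
  IsDiscreteValuationRing.RingEquivClass.isDiscreteValuationRing (RingEquiv.ofBijective φ hφ)

theorem exists_mem_of_prod {X : Scheme.{u}} {r : ℕ} (E : Fin r → X.IdealSheafData) (a : Fin r → ℕ) {x : X}
    (hx : x ∈ (∏ i, E i ^ a i).support) : ∃ i, x ∈ (E i).support := by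
  by_contra hne
  push Not at hne
  have h1 : stalkIdeal (∏ i, E i ^ a i) x = ⊤ := by
    have h2 : ∀ s : Finset (Fin r), stalkIdeal (∏ i ∈ s, E i ^ a i) x = ⊤ := by
      intro s
      induction s using Finset.induction_on with
      | empty => rw [Finset.prod_empty, Scheme.IdealSheafData.one_eq_top, stalkIdeal_top]
      | insert j s hj ih =>
        rw [Finset.prod_insert hj, stalkIdeal_mul, ih, stalkIdeal_pow,
          (notMem_support_iff_stalkIdeal_eq_top _ _).1 (hne j), Ideal.top_pow, Ideal.top_mul]
    exact h2 _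
  exact (notMem_support_iff_stalkIdeal_eq_top _ _).2 h1 hx

/-- **strict transforms** -/
theorem exists_strict [IsIntegral X] [IsIntegral Y] [IsLocallyNoetherian X] [IsLocallyNoetherian Y]
    (hX : ∀ x : X, IsIntegrallyClosed (X.presheaf.stalk x)) (f : Y ⟶ X) [IsProper f] (hf : IsBir f)
    {C : X.IdealSheafData} (hC : IsIntegral C.subscheme) (hCe : BlowUp.IsEffCartierIdeal C)
    {r : ℕ} {E : Fin r → Y.IdealSheafData} (hint : ∀ i, IsIntegral (E i).subscheme)
    (hE : ∀ i, BlowUp.IsEffCartierIdeal (E i)) (hinj : Function.Injective E) (a : Fin r → ℕ)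
    (hCE : C.comap f = ∏ i, E i ^ a i) :
    ∃ i, f (xi (E i) (hint i)) = xi C hC ∧ Function.Bijective (f.stalkMap (xi (E i) (hint i))).hom ∧ a i = 1 := by
  have hdvr := dvr_xi hC hCe
  obtain ⟨y, hy, hbij⟩ := exists_point hX f hf (xi C hC)
  have hmem : y ∈ (C.comap f).support := by
    rw [K911.Ncd.mem_support_comap, hy]
    exact xi_mem hC
  rw [hCE] at hmem
  obtain ⟨i, hi⟩ := exists_mem_of_prod E a hmem
  have hdvr' : IsDiscreteValuationRing (X.presheaf.stalk (f y)) := by rw [hy]; exact hdvr
  have hdy : IsDiscreteValuationRing (Y.presheaf.stalk y) := dvr_of_bijective _ hbij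
  obtain rfl := eq_xi_of_mem (hint i) (hE i) hi
  refine ⟨i, hy, hbij, ?_⟩
  have h1 := ordI_prod_pow hint hE hinj a i
  rw [← hCE, ordI_comap_of_bijective _ f C hbij] at h1
  have h2 : ordI C (f (xi (E i) (hint i))) = 1 := by
    have h3 : ∀ z : X, z = xi C hC → ∀ _ : IsDiscreteValuationRing (X.presheaf.stalk z), ordI C z = 1 := by
      rintro z rfl _
      exact ordI_self hC
    exact h3 _ hy _
  rw [h2] at h1
  exact_mod_cast h1.symm

end K165.Places
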