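import Groth.Agent.AdjLin.K633.Plan
import Groth.Agent.AdjLin.K134.PJac
import Groth.Agent.AdjLin.K165.Places

/-!
# The nodes NLR and NModel of `K633.Plan`
-/

set_option autoImplicit false
universe u

open CategoryTheory CategoryTheory.Limits AlgebraicGeometry TopologicalSpace IsDiscreteValuationRing

namespace K165.Tower

open K633.Fuj Groth.Agent Groth.Agent.Divis.CartierBasic Groth.Agent.Divis.CartierStalk
open K134.PBase K134.PJac K84.Iface

variable {k : Type u} [Field k] {X : Scheme.{u}} {p : X ⟶ Spec (CommRingCat.of k)} {n : ℕ} {L : X.Modules}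

/-! ### stalks of monomial ideals -/

theorem stalkIdeal_finprod {Y : Scheme.{u}} {ι : Type*} (s : Finset ι) (D : ι → Y.IdealSheafData) (y : Y) :
    stalkIdeal (∏ i ∈ s, D i) y = ∏ i ∈ s, stalkIdeal (D i) y := by
  classical
  induction s using Finset.induction_on with
  | empty => rw [Finset.prod_empty, Finset.prod_empty, Scheme.IdealSheafData.one_eq_top, stalkIdeal_top,
      Ideal.one_eq_top]
  | insert a s ha ih => rw [Finset.prod_insert ha, Finset.prod_insert ha, stalkIdeal_mul, ih]

theorem gp_notMem (M : Model p) {i j : Fin M.r} (hij : i ≠ j) : M.gp i ∉ (M.E j).support := by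
  have := isLocallyNoetherian_Y M
  exact K165.Places.xi_notMem (E := M.E) M.irr (isEff_E M) M.inj hij

theorem stalkIdeal_mon (M : Model p) (e : Fin M.r → ℕ) (i : Fin M.r) :
    stalkIdeal (M.mon e) (M.gp i) = IsLocalRing.maximalIdeal (M.Y.presheaf.stalk (M.gp i)) ^ e i := by
  rw [Model.mon, stalkIdeal_finprod, Finset.prod_eq_single i]
  · rw [stalkIdeal_pow, stalkIdeal_E_gp]
  · intro j _ hj
    rw [stalkIdeal_pow, (notMem_support_iff_stalkIdeal_eq_top _ _).1 (gp_notMem M (Ne.symm hj)), Ideal.top_pow,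
      Ideal.one_eq_top]
  · intro hi; exact (hi (Finset.mem_univ i)).elim

theorem ord_mon (M : Model p) (e : Fin M.r → ℕ) (i : Fin M.r) : K633.Fuj.ord (M.mon e) (M.gp i) = e i := by
  have := isDVR_gp M i
  rw [K633.Fuj.ord, stalkIdeal_mon, idOrd_pow]

theorem isMon_of_exists (M : Model p) (I : X.IdealSheafData) (a : Fin M.r → ℕ) (h : I.comap M.μ = M.mon a) :
    M.IsMon I := by
  have h1 : M.o I = a := by
    funext i
    rw [Model.o, h, ord_mon]
  rw [Model.IsMon, h1, h]

/-! ### NModel -/

theorem nModel (C : Ctx p n L) : NModel p := by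
  obtain ⟨h1, h2, h3, h4, h5⟩ := inst C
  exact ⟨{ Y := X
           μ := 𝟙 X
           r := 0
           E := Fin.elim0
           int := h1
           proj := by rw [Category.id_comp]; exact C.proj
           bir := K588.Bir.isBir_id X
           smooth := by rw [Category.id_comp]; exact h3
           snc := fun x hx => hx.elim fun i => Fin.elim0 i.1
           irr := fun i => Fin.elim0 i
           inj := fun i => Fin.elim0 i }⟩

/-! ### a model over a model is birational over it -/

theorem isProper_nu (C : Ctx p n L) {N M : Model p} (h : N.Over M) : IsProper h.ν := by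
  obtain ⟨h1, h2, h3, h4, h5⟩ := inst C
  have e4 := isProper_mu N
  have e5 := isProper_mu M
  have : IsProper (h.ν ≫ M.μ) := by rw [h.w]; exact e4
  exact IsProper.of_comp h.ν M.μ

theorem isBir_nu (C : Ctx p n L) {N M : Model p} (h : N.Over M) : IsBir h.ν := by
  obtain ⟨h1, h2, h3, h4, h5⟩ := inst C
  obtain ⟨V, hV, hiV⟩ := M.bir
  obtain ⟨W, hW, hiW⟩ := N.bir
  have g1 : genericPoint X ∈ V ⊓ W := ⟨K588.Bir.genericPoint_mem hV, K588.Bir.genericPoint_mem hW⟩
  have i1 : IsIso (M.μ ∣_ (V ⊓ W)) := K588.Bir.isIso_restrict_le M.μ inf_le_left hiV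
  have i2 : IsIso (N.μ ∣_ (V ⊓ W)) := K588.Bir.isIso_restrict_le N.μ inf_le_right hiW
  have i3 : IsIso ((h.ν ≫ M.μ) ∣_ (V ⊓ W)) := by
    have := h.w
    rw [← this] at i2
    exact i2
  have i4 : IsIso ((h.ν ∣_ (M.μ ⁻¹ᵁ (V ⊓ W))) ≫ (M.μ ∣_ (V ⊓ W))) := by
    have e := morphismRestrict_comp h.ν M.μ (V ⊓ W)
    rw [e] at i3
    exact i3
  refine ⟨M.μ ⁻¹ᵁ (V ⊓ W), ?_, ?_⟩
  · obtain ⟨y, hy⟩ := K588.Bir.exists_of_isIso_restrict M.μ i1 g1
    exact ⟨y, by change M.μ y ∈ V ⊓ W; rw [hy]; exact g1⟩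
  · exact @IsIso.of_isIso_comp_right _ _ _ _ _ (h.ν ∣_ (M.μ ⁻¹ᵁ (V ⊓ W))) (M.μ ∣_ (V ⊓ W)) i1 i4

/-! ### NLR -/

theorem nLR (hW : W k n) (C : Ctx p n L) : NLR p := by
  obtain ⟨h1, h2, h3, h4, h5⟩ := inst C
  intro M m I hI
  have hYn := isLocallyNoetherian_Y M
  have hpm := isProper_mu M
  have hgen : M.μ (genericPoint M.Y) = genericPoint X := K588.Bir.map_genericPoint M.bir
  let I' : Fin (m + M.r) → M.Y.IdealSheafData := Fin.append (fun j => (I j).comap M.μ) M.E
  have hI' : ∀ j, I' j ≠ ⊥ := by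
    intro j
    refine Fin.addCases (fun j => ?_) (fun j => ?_) j
    · simp only [I', Fin.append_left]
      intro h0
      rw [← K165.LogRes.mem_support_bot_iff, K911.Ncd.mem_support_comap, hgen,
        K165.LogRes.mem_support_bot_iff] at h0
      exact hI j h0
    · simp only [I', Fin.append_right]
      intro h0
      have h6 := genericPoint_notMem (isEff_E M j)
      rw [h0] at h6
      exact h6 (K165.LogRes.mem_support_bot_iff.2 rfl)
  obtain ⟨Y', ν, r', E', hY', hproj, hbir, hsm, hncd, hint, hinj, -, hmon⟩ :=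
    K165.LogRes.exists_logRes hW (M.μ ≫ p) M.proj ((dim_Y M).trans C.dim) I' hI' ∅ isClosed_empty (by
      intro h0
      have : (genericPoint M.Y) ∈ (∅ : Set M.Y) := by rw [h0]; trivial
      exact this)
  let N : Model p := { Y := Y', μ := ν ≫ M.μ, r := r', E := E', int := hY', proj := by rwa [Category.assoc]
                       bir := K588.Bir.isBir_comp ν M.μ hbir M.bir, smooth := by rwa [Category.assoc]
                       snc := by rwa [Category.assoc], irr := hint, inj := hinj }
  let h : N.Over M := ⟨ν, rfl⟩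
  refine ⟨N, h, fun j => ?_, fun i => ?_⟩
  · obtain ⟨a, ha⟩ := hmon (Fin.castAdd M.r j)
    simp only [I', Fin.append_left] at ha
    refine isMon_of_exists N (I j) a (Eq.trans ?_ ha)
    exact (Scheme.IdealSheafData.comap_comp _ _ _)
  · obtain ⟨a, ha⟩ := hmon (Fin.natAdd m i)
    simp only [I', Fin.append_right] at ha
    have hN := isLocallyNoetherian_Y N
    have hpr : IsProper ν := isProper_nu C h
    have hcl : ∀ y : M.Y, IsIntegrallyClosed (M.Y.presheaf.stalk y) := by
      intro y
      have := M.smooth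
      have h6 : IsRegularLocalRing (M.Y.presheaf.stalk y) :=
        Lefpen.H705.ClosedPoint.isRegularLocalRing_stalk (M.μ ≫ p) y
      exact CurvesC.RegNormal.isIntegrallyClosed (M.Y.presheaf.stalk y)
    obtain ⟨j, hj, -, -⟩ := K165.Places.exists_strict hcl ν hbir (M.irr i) (isEff_E M i) hint
      (fun i => isEff_E N i) hinj a ha
    exact ⟨j, hj⟩

end K165.Tower
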